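import Groth.Agent.L14.Luna.Cor
import Groth.Agent.L08.Borel.CentBorel

/-!
# In a reductive group a maximal torus is its own centralizer
-/

set_option autoImplicit false
set_option backward.isDefEq.respectTransparency.types false
set_option linter.style.haveILetI false
set_option linter.unusedSectionVars false
set_option maxHeartbeats 1000000

universe u

open CategoryTheory CategoryTheory.Limits MonoidalCategory CartesianMonoidalCategory MonObj GrpObj AlgebraicGeometry
open Groth.L08.Borel

noncomputable section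

namespace Groth.L14.Luna

variable {k : Type u} [Field k] [IsAlgClosed k]

/-- The centralizer of a maximal torus of a reductive group is the torus. -/
theorem isIso_of_centralizer_maxTorus {G T C : Over (Spec (CommRingCat.of k))} [GrpObj G] [GrpObj T] [GrpObj C]
    (hG : Red.IsReductiveOver k G) {iT : T ⟶ G} (hT : AGF.IsMaxTorus iT) {c : C ⟶ G}
    (hc : Red.IsCentralizerOf iT c) (t : T ⟶ C) (ht : t ≫ c = iT) : IsIso t := by
  haveI := hG.1; haveI := hG.2.1; haveI := hG.2.2.1
  haveI := hT.1; haveI := hT.2.1; haveI := hc.1; haveI := hc.2.1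
  obtain ⟨hcc, hCa, hCs, hCc, -, -⟩ := centralizer_props hT.2.2.1 hc
  haveI := hcc; haveI := hCa; haveI := hCs; haveI := hCc
  obtain ⟨T', gT', iT', p, V, gV, v, hm, hmono, hT', hp, hip, hV, -, hker⟩ :=
    exists_retraction_radical C (isSolvableGrp_centralizer hT hc)
  haveI := hm; haveI := hmono; haveI := hp
  obtain ⟨hvm, hvc, -, hVs, hVc, hVns⟩ := unipotentRadical_data hV
  haveI := hvm; haveI := hvc; haveI := hVs; haveI := hVc
  haveI : IsClosedImmersion (v ≫ c).left := inferInstanceAs (IsClosedImmersion (v.left ≫ c.left))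
  have hv1 : v ≫ c = 1 := eq_one_of_borels hG hT (v ≫ c) hVns fun B _ iB b hB hb => by
    obtain ⟨f, hf⟩ := centralizer_le_borel hT hc hB b hb
    exact ⟨v ≫ f, by rw [Category.assoc, hf]⟩
  have hv2 : v = 1 := by rw [← cancel_mono c, hv1, MonObj.one_comp]
  haveI : Mono p := ⟨fun {Y} x y e => by
    obtain ⟨w, hw⟩ := hker Y (x * y⁻¹) (by rw [MonObj.mul_comp, GrpObj.inv_comp, e, mul_inv_cancel])
    rw [hv2, MonObj.comp_one] at hw
    exact mul_inv_eq_one.1 hw.symm⟩
  haveI : IsSplitEpi p := ⟨⟨⟨iT', hip⟩⟩⟩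
  haveI : IsIso p := isIso_of_mono_of_isSplitEpi p
  haveI : IsMonHom t := isMonHom_of_comp_mono t c iT ht
  have e : (t ≫ p) ≫ iT' ≫ c = iT := by
    rw [show iT' = inv p from IsIso.eq_inv_of_inv_hom_id hip, Category.assoc, IsIso.hom_inv_id_assoc, ht]
  haveI : IsIso (t ≫ p) := hT.2.2.2 T' (iT' ≫ c) (t ≫ p) hT' e
  exact IsIso.of_isIso_comp_right t p

end Groth.L14.Luna
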