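import Groth.Agent.L14.Luna.Cor
import Groth.Agent.L08.Borel.CentBorel
import Groth.Agent.L08.Borel.Orbit
import Groth.Agent.L08.Borel.NilRank

/-!
# Centralizers of tori in reductive groups are reductive
-/

set_option autoImplicit false
set_option backward.isDefEq.respectTransparency.types false
set_option linter.style.haveILetI false
set_option linter.unusedSectionVars false
set_option maxHeartbeats 1000000

universe u

open CategoryTheory CategoryTheory.Limits MonoidalCategory CartesianMonoidalCategory MonObj GrpObj AlgebraicGeometry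
open Groth.L08.Borel

noncomputable section

namespace Groth.L14.Luna

variable {k : Type u} [Field k]

/-- Fibre products of monomorphic homomorphisms are groups. -/
theorem exists_grpObj_pullback {S : Scheme.{u}} {A B G D : Over S} [GrpObj A] [GrpObj B] [GrpObj G] {a : A ⟶ G}
    {b : B ⟶ G} {p : D ⟶ A} {q : D ⟶ B} [IsMonHom a] [IsMonHom b] [Mono p] (h : IsPullback p q a b) :
    ∃ (_ : GrpObj D), IsMonHom p := by
  obtain ⟨z₁, hz₁, -⟩ := h.exists_lift (1 : 𝟙_ (Over S) ⟶ A) 1 (by rw [MonObj.one_comp, MonObj.one_comp])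
  obtain ⟨z₂, hz₂, -⟩ := h.exists_lift ((fst D D ≫ p) * (snd D D ≫ p)) ((fst D D ≫ q) * (snd D D ≫ q)) (by
    rw [MonObj.mul_comp, MonObj.mul_comp, Category.assoc, Category.assoc, Category.assoc, Category.assoc, h.w])
  obtain ⟨z₃, hz₃, -⟩ := h.exists_lift p⁻¹ q⁻¹ (by rw [GrpObj.inv_comp, GrpObj.inv_comp, h.w])
  exact Groth.L08.exists_grpObj_of_mono p ⟨z₁, hz₁.trans (MonObj.one_eq_one A).symm⟩ ⟨z₂, hz₂⟩ ⟨z₃, hz₃⟩

variable [IsAlgClosed k]

/-- A subtorus is contained in a maximal torus. -/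
theorem exists_maxTorus_ge {G S : Over (Spec (CommRingCat.of k))} [GrpObj G] [GrpObj S] [IsAffine G.left]
    [Smooth G.hom] (iS : S ⟶ G) [IsMonHom iS] [Mono iS] (hS : Red.IsTorus S) :
    ∃ (T : Over (Spec (CommRingCat.of k))) (_ : GrpObj T) (iT : T ⟶ G), AGF.IsMaxTorus iT ∧
      ∃ f : S ⟶ T, f ≫ iT = iS := by
  haveI : QuasiCompact G.hom := quasiCompact_of_compactSpace _
  obtain ⟨T, gT, iT, hT, g, f, hf⟩ := exists_maxTorus_absorb iS hS
  refine ⟨T, gT, AGF.conjBy g⁻¹ iT, isMaxTorus_conjBy hT g⁻¹, f, ?_⟩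
  rw [comp_conjBy, hf, conjBy_conjBy, inv_mul_cancel, conjBy_one]

/-- A normal unipotent subgroup of the centralizer of a subtorus lies in all Borel subgroups containing a maximal
torus which contains the subtorus. -/
theorem normal_centralizer_le_borel {G S C N T B : Over (Spec (CommRingCat.of k))} [GrpObj G] [GrpObj S] [GrpObj C]
    [GrpObj N] [GrpObj T] [GrpObj B] [IsAffine G.left] [Smooth G.hom] [ConnectedSpace G.left]
    {iS : S ⟶ G} [IsMonHom iS] [Mono iS] (hS : Red.IsTorus S) {c : C ⟶ G} (hc : Red.IsCentralizerOf iS c)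
    (n : N ⟶ C) [IsMonHom n] [IsClosedImmersion n.left] (hn : AlgGrp.IsNormalHom n) [Smooth N.hom]
    [ConnectedSpace N.left] (hns : Red.HasNoSubtorus k N)
    {iT : T ⟶ G} (f : S ⟶ T) (hf : f ≫ iT = iS) {iB : B ⟶ G} (hB : Red.IsBorelOver k iB) (t : T ⟶ B)
    (ht : t ≫ iB = iT) : ∃ g : N ⟶ B, g ≫ iB = n ≫ c := by
  obtain ⟨hcc, hCa, hCs, hCc, -, -⟩ := centralizer_props hS hc
  haveI := hcc; haveI := hCa; haveI := hCs; haveI := hCc; haveI := hc.1; haveI := hc.2.1
  haveI := hB.1; haveI := hB.2.1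
  haveI : Mono iB := Over.mono_of_mono_left iB
  have hpb : IsPullback (pullback.fst c iB) (pullback.snd c iB) c iB := IsPullback.of_hasPullback c iB
  haveI : Mono (pullback.fst c iB) := inferInstance
  obtain ⟨gD, hD⟩ := exists_grpObj_pullback hpb
  letI := gD
  haveI := hD
  haveI : IsMonHom (pullback.snd c iB) :=
    isMonHom_of_comp_mono (pullback.snd c iB) iB (pullback.fst c iB ≫ c) hpb.w.symm
  have hDB := isBorelOver_inter iS hS hc hB (f ≫ t) (by rw [Category.assoc, ht, hf]) hpb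
  obtain ⟨g, hg⟩ := normal_le_borel n hn hns hDB
  exact ⟨g ≫ pullback.snd c iB, by rw [Category.assoc, ← hpb.w, ← Category.assoc, hg]⟩

/-- **The centralizer of a subtorus of a reductive group is reductive.** -/
theorem isReductiveOver_centralizer {G S C : Over (Spec (CommRingCat.of k))} [GrpObj G] [GrpObj S] [GrpObj C]
    (hG : Red.IsReductiveOver k G) {iS : S ⟶ G} [IsMonHom iS] [Mono iS] (hS : Red.IsTorus S) {c : C ⟶ G}
    (hc : Red.IsCentralizerOf iS c) : Red.IsReductiveOver k C := by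
  haveI := hG.1; haveI := hG.2.1; haveI := hG.2.2.1
  obtain ⟨hcc, hCa, hCs, hCc, -, -⟩ := centralizer_props hS hc
  haveI := hcc; haveI := hc.1; haveI := hc.2.1
  refine ⟨hCa, hCs, hCc, fun N _ n _ hnc hNs hNc hn hns => ?_⟩
  haveI := hnc; haveI := hNs; haveI := hNc
  obtain ⟨T, gT, iT, hT, f, hf⟩ := exists_maxTorus_ge iS hS
  haveI : IsClosedImmersion (n ≫ c).left := inferInstanceAs (IsClosedImmersion (n.left ≫ c.left))
  have h1 : n ≫ c = 1 := eq_one_of_borels hG hT (n ≫ c) hns fun B _ iB t hB ht =>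
    normal_centralizer_le_borel hS hc n hn hns f hf hB t ht
  refine isTrivialGrp_of_id_eq_one ?_
  haveI : Mono n := Over.mono_of_mono_left n
  rw [← cancel_mono (n ≫ c), Category.id_comp, MonObj.one_comp, h1]

end Groth.L14.Luna
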