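import Groth.Agent.L08.Borel.DynCell
import Groth.Agent.L08.Borel.Borels
import Groth.Agent.L08.Borel.General

/-!
# Two Borel subgroups in general position
-/

set_option autoImplicit false
set_option backward.isDefEq.respectTransparency.types false
set_option linter.style.haveILetI false
set_option linter.unusedSectionVars false

universe u

open CategoryTheory CategoryTheory.Limits MonoidalCategory CartesianMonoidalCategory MonObj GrpObj AlgebraicGeometry
open TensorProduct WithConv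
open Groth.L25.Bridge (P)
open Groth.L08.TorusQuot (sp sp_left sp_comp exists_sp toPt toPt_pre toPt_post SP Pt pre spA)
open Groth.L25.Dyn (jPlus jU lamP lamW cst pmap)
open Groth.L08.Borel

noncomputable section

namespace Groth.L14.Luna

variable {k : Type u} [Field k] [IsAlgClosed k]

local notation "U1" => 𝟙_ (Over (Spec (CommRingCat.of k)))

/-- The attractor of a regular one-parameter subgroup is a connected solvable subgroup containing the torus. -/
theorem exists_limit_group {A : Type u} [CommRing A] [HopfAlgebra k A] [Algebra.FiniteType k A] [Algebra.Smooth k A]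
    {G T C : Over (Spec (CommRingCat.of k))} [GrpObj G] [GrpObj T] [GrpObj C] [IsAffine G.left]
    [Smooth G.hom] [ConnectedSpace G.left] {iT : T ⟶ G} (hT : AGF.IsMaxTorus iT) {c : C ⟶ G}
    (hc : Red.IsCentralizerOf iT c) (φ : P k A ⟶ G) [IsMonHom φ] [IsIso φ] (ψ : G ⟶ P k A) [IsMonHom ψ]
    (hφψ : φ ≫ ψ = 𝟙 _) (hψφ : ψ ≫ φ = 𝟙 G) (hconn : ∀ e : A, IsIdempotentElem e → e = 0 ∨ e = 1)
    {n : ℕ} (b : T ⟶ P k (MonoidAlgebra k (Multiplicative (Fin n → ℤ))))
    (bi : P k (MonoidAlgebra k (Multiplicative (Fin n → ℤ))) ⟶ T) [IsMonHom b] [IsMonHom bi] (hbb : b ≫ bi = 𝟙 T)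
    (cA : A →ₐc[k] MonoidAlgebra k (Multiplicative (Fin n → ℤ))) (hcA : sp cA = bi ≫ iT ≫ ψ)
    (lam : A →ₐc[k] LaurentPolynomial k)
    (hw : ∀ (R : Type u) [CommRing R] [Algebra k R] (g : A →ₐ[k] R),
      Dyn.conjOrbit k A lam R g = (IsScalarTower.toAlgHom k R (LaurentPolynomial R)).comp g →
        Groth.L25.Dyn.TorCommutes (((AddMonoidAlgebra.toMultiplicativeBialgEquiv k k (Fin n → ℤ)).symm :
          MonoidAlgebra k (Multiplicative (Fin n → ℤ)) →ₐc[k] AddMonoidAlgebra k (Fin n → ℤ)).comp cA) g)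
    (hl : ∀ (R : Type u) [CommRing R] [Algebra k R],
      ∃ y : Pt k (MonoidAlgebra k (Multiplicative (Fin n → ℤ))) (LaurentPolynomial R), pre cA y = lamP lam R) :
    ∃ (W : Over (Spec (CommRingCat.of k))) (_ : GrpObj W) (iw : W ⟶ G) (t : T ⟶ W),
      IsMonHom iw ∧ IsClosedImmersion iw.left ∧ Smooth W.hom ∧ ConnectedSpace W.left ∧ Red.IsSolvableGrp W ∧
      t ≫ iw = iT ∧ ∀ x : Pt k A k, (∀ a ∈ jPlus lam, x.ofConv a = 0) → ∃ z : SP k k ⟶ W, z ≫ iw = toPt x ≫ φ := by
  haveI := hT.1; haveI := hT.2.1; haveI := hc.1; haveI := hc.2.1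
  haveI : Algebra.FinitePresentation k A := Algebra.FinitePresentation.of_finiteType.1 inferInstance
  haveI : LocallyOfFiniteType G.hom := inferInstance
  haveI : IsIso φ.left := inferInstanceAs (IsIso ((Over.forget _).map φ))
  let eM := (AddMonoidAlgebra.toMultiplicativeBialgEquiv k k (Fin n → ℤ)).symm
  let φc : A →ₐc[k] AddMonoidAlgebra k (Fin n → ℤ) :=
    (eM : MonoidAlgebra k (Multiplicative (Fin n → ℤ)) →ₐc[k] AddMonoidAlgebra k (Fin n → ℤ)).comp cA
  haveI := Groth.L25.Dyn.isHopfIdeal_jPlus lam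
  let Jp := jPlus lam
  let qW : A →ₐc[k] A ⧸ Jp := Bialgebra.Quotient.mkBialgHom (R := k) Jp
  -- connectedness, smoothness and solvability
  haveI : Algebra.FormallySmooth k (A ⧸ Jp) :=
    Groth.L25.Dyn.formallySmooth_of_lifts (Groth.L25.Dyn.represents_jPlus lam) fun B _ _ J hJ g hg => by
      obtain ⟨g1, hg1, hg2⟩ := Groth.L25.Dyn.exists_negKill_lift lam hJ g ((Groth.L25.Dyn.limExists_iff lam _).1 hg)
      exact ⟨g1, (Groth.L25.Dyn.limExists_iff lam _).2 hg1, hg2⟩
  haveI : Algebra.FinitePresentation k (A ⧸ Jp) := Algebra.FinitePresentation.quotient (Groth.L25.Dyn.fg_jPlus lam).1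
  haveI : Algebra.Smooth k (A ⧸ Jp) := ⟨inferInstance, inferInstance⟩
  haveI hWs : Smooth (P k (A ⧸ Jp)).hom := by
    show Smooth (Spec.map (CommRingCat.ofHom (algebraMap k (A ⧸ Jp))))
    rw [HasRingHomProperty.Spec_iff (P := @Smooth), CommRingCat.hom_ofHom]
    exact RingHom.smooth_algebraMap.2 inferInstance
  haveI : IsClosedImmersion (sp qW).left :=
    IsClosedImmersion.spec_of_surjective (CommRingCat.ofHom (qW : A →+* A ⧸ Jp)) Ideal.Quotient.mk_surjective
  haveI : IsClosedImmersion (sp qW ≫ φ).left := inferInstanceAs (IsClosedImmersion ((sp qW).left ≫ φ.left))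
  haveI hWc : ConnectedSpace (P k (A ⧸ Jp)).left := by
    show ConnectedSpace (PrimeSpectrum (A ⧸ Jp))
    haveI : Nontrivial (A ⧸ Jp) :=
      (Bialgebra.counitAlgHom k (A ⧸ Jp)).toRingHom.domain_nontrivial
    refine connectedSpace_iff_clopen.2 ⟨inferInstance, fun s hs => ?_⟩
    obtain ⟨f, ⟨hf, rfl⟩, -⟩ := PrimeSpectrum.existsUnique_idempotent_basicOpen_eq_of_isClopen hs
    rcases Groth.L25.Dyn.idem_quotient_jPlus lam Jp rfl hconn f hf with rfl | rfl
    · left; rw [PrimeSpectrum.basicOpen_zero]; rfl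
    · right; rw [PrimeSpectrum.basicOpen_one]; rfl
  have hWsol : Red.IsSolvableGrp (P k (A ⧸ Jp)) := by
    haveI : QuasiCompact (P k (A ⧸ Jp)).hom := quasiCompact_of_compactSpace _
    haveI := isSolvable_pts (isSolvableGrp_centralizer hT hc)
    let Φ : Pt k A k →* (SP k k ⟶ G) :=
      { toFun := fun g => toPt g ≫ φ
        map_one' := by rw [toPt, map_one, MonObj.one_comp]
        map_mul' := fun g g' => by rw [toPt, map_mul, MonObj.mul_comp] }
    have hΦ : Function.Injective Φ := fun g g' e => Spec.mapMulEquiv.injective ((cancel_mono φ).1 e)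
    let e1 : U1 ≅ SP k k := Over.isoMk (Iso.refl _) (by
      show 𝟙 _ ≫ Spec.map (CommRingCat.ofHom (algebraMap k k)) = 𝟙 _
      rw [Algebra.algebraMap_self, Category.id_comp]; exact Spec.map_id _)
    let Cp : (U1 ⟶ C) →* (SP k k ⟶ G) := MonoidHom.mk' (fun z => e1.inv ≫ z ≫ c) fun z z' => by
      rw [MonObj.mul_comp, MonObj.comp_mul]
    let N : Subgroup (Pt k A k) := Cp.range.comap Φ
    haveI : Group.IsSolvable Cp.range := Group.isSolvable_of_surjective Cp.rangeRestrict_surjective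
    haveI : Group.IsSolvable N :=
      Group.isSolvable_of_isSolvable_injective (f := (Φ.comp N.subtype).codRestrict Cp.range fun x => x.2)
        fun x y e => Subtype.ext (hΦ (congrArg Subtype.val e))
    haveI hsol := Dyn.isSolvable_of_limit lam (N := N) fun z hz => by
      have hcomm := hw k z.ofConv hz
      obtain ⟨z', hz'⟩ := (hc.2.2 (SP k k) (toPt z ≫ φ)).2 fun X' x h => by
        refine Groth.L08.HomSpace.hom_ext_affine _ _ fun R _ _ v => ?_
        obtain ⟨ψR, hψR⟩ : ∃ ψR : k →ₐ[k] R, spA ψR = v ≫ x := ⟨Algebra.ofId k R, hom_ext_base _ _⟩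
        obtain ⟨y, hy⟩ := (Spec.mapMulEquiv (R := k) (S := MonoidAlgebra k (Multiplicative (Fin n → ℤ)))
          (T := R)).surjective ((v ≫ h) ≫ b)
        let χ : AddMonoidAlgebra k (Fin n → ℤ) →ₐ[k] R := y.ofConv.comp
          (eM.symm : AddMonoidAlgebra k (Fin n → ℤ) →ₐc[k] MonoidAlgebra k (Multiplicative (Fin n → ℤ)))
        have hc' : pre cA y * pmap ψR z = pmap ψR z * pre cA y := by
          have h1 : toConv (χ.comp (φc : A →ₐ[k] AddMonoidAlgebra k (Fin n → ℤ))) = pre cA y := by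
            refine WithConv.ext (AlgHom.ext fun a => ?_)
            show y.ofConv (eM.symm (eM (cA a))) = y.ofConv (cA a)
            rw [BialgEquiv.symm_apply_apply]
          have h2 := (hcomm R ψR χ).eq
          rw [h1] at h2
          exact h2
        have h3 : toPt (pre cA y) * toPt (pmap ψR z) = toPt (pmap ψR z) * toPt (pre cA y) :=
          (map_mul _ _ _).symm.trans ((congrArg toPt hc').trans (map_mul _ _ _))
        have e2 : toPt (pre cA y) ≫ φ = v ≫ h ≫ iT := by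
          rw [toPt_pre, hcA, show toPt y = (v ≫ h) ≫ b from hy]
          simp only [Category.assoc, hψφ, Category.comp_id, reassoc_of% hbb]
        have e3 : toPt (pmap ψR z) ≫ φ = v ≫ x ≫ toPt z ≫ φ := by
          rw [show pmap ψR z = Groth.L08.TorusQuot.post ψR z from rfl, toPt_post, hψR]
          simp only [Category.assoc]
        have := congrArg (· ≫ φ) h3
        simp only [MonObj.mul_comp, e2, e3] at this
        simp only [MonObj.comp_mul]
        exact this.symm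
      exact ⟨e1.hom ≫ z', by
        show e1.inv ≫ (e1.hom ≫ z') ≫ c = toPt z ≫ φ
        rw [Category.assoc, Iso.inv_hom_id_assoc, hz']⟩
    refine isSolvableGrp_of_pts ?_
    let Ψ : (U1 ⟶ P k (A ⧸ Jp)) →* Pt k (A ⧸ Jp) k :=
      MonoidHom.mk' (fun x => Groth.L08.TorusQuot.ofPt (e1.inv ≫ x)) fun x y => by
        rw [MonObj.comp_mul]; exact map_mul _ _ _
    exact Group.isSolvable_of_isSolvable_injective (f := Ψ) fun x y e =>
      (cancel_epi e1.inv).1 ((Spec.mapMulEquiv (R := k) (S := A ⧸ Jp) (T := k)).symm.injective e)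
  -- the torus inside
  have htors : ∀ (R : Type u) [CommRing R] [Algebra k R] (y : Pt k (MonoidAlgebra k (Multiplicative (Fin n → ℤ))) R),
      ∀ x ∈ Jp, (pre cA y).ofConv x = 0 := fun R _ _ y => by
    refine (Groth.L25.Dyn.represents_jPlus lam R _).2 ((Groth.L25.Dyn.limExists_iff lam _).2 ?_)
    have hfix : Dyn.conjOrbit k A lam R (pre cA y).ofConv =
        (IsScalarTower.toAlgHom k R (LaurentPolynomial R)).comp (pre cA y).ofConv := by
      let l : Pt k (MonoidAlgebra k (Multiplicative (Fin n → ℤ))) (LaurentPolynomial R) := (hl R).choose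
      have hl' : lamP lam R = pre cA l := (hl R).choose_spec.symm
      have h1 := Groth.L25.Dyn.conjOrbit_eq lam (pre cA y).ofConv
      have h2 : pmap (cst (k := k) R) (pre cA y) = pre cA (Groth.L08.TorusQuot.post (cst (k := k) R) y) := rfl
      rw [toConv_ofConv, h2, hl', ← map_inv, ← map_mul, ← map_mul,
        mul_comm l, mul_inv_cancel_right] at h1
      exact congrArg WithConv.ofConv h1
    exact fun m hm a ha => (Groth.L25.Dyn.commutes_iff lam _).1 hfix m hm.ne a ha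
  obtain ⟨cW, hcW⟩ : ∃ cW : A ⧸ Jp →ₐ[k] MonoidAlgebra k (Multiplicative (Fin n → ℤ)),
      cW.comp (qW : A →ₐ[k] A ⧸ Jp) = (cA : A →ₐ[k] _) := by
    refine ⟨Ideal.Quotient.liftₐ Jp (cA : A →ₐ[k] _) fun x hx => ?_, AlgHom.ext fun x => rfl⟩
    exact htors _ (toConv (AlgHom.id k _)) x hx
  refine ⟨P k (A ⧸ Jp), inferInstance, sp qW ≫ φ, b ≫ toPt (toConv cW), inferInstance, inferInstance, hWs, hWc,
    hWsol, ?_, fun x hx => ?_⟩
  · have e : toPt (toConv cW) ≫ sp qW = sp cA := by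
      rw [← toPt_pre]
      refine Over.OverMorphism.ext ?_
      rw [sp_left]
      exact congrArg (fun f : A →ₐ[k] _ => Spec.map (CommRingCat.ofHom f.toRingHom)) hcW
    rw [Category.assoc, reassoc_of% e, hcA]
    simp only [Category.assoc, hψφ, Category.comp_id, reassoc_of% hbb]
  · refine ⟨toPt (toConv (Ideal.Quotient.liftₐ Jp x.ofConv hx)), ?_⟩
    rw [← Category.assoc, ← toPt_pre]
    rfl

/-- Two Borel subgroups containing a maximal torus with product containing a nonempty open set, tested on functions. -/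
theorem exists_general_position {G T : Over (Spec (CommRingCat.of k))} [GrpObj G] [GrpObj T] [IsAffine G.left]
    [Smooth G.hom] [ConnectedSpace G.left] {iT : T ⟶ G} (hT : AGF.IsMaxTorus iT) :
    ∃ (B B' : Over (Spec (CommRingCat.of k))) (_ : GrpObj B) (_ : GrpObj B') (iB : B ⟶ G) (iB' : B' ⟶ G)
      (t : T ⟶ B) (t' : T ⟶ B') (O : G.left.Opens), Red.IsBorelOver k iB ∧ Red.IsBorelOver k iB' ∧
      t ≫ iB = iT ∧ t' ≫ iB' = iT ∧ (O : Set G.left).Nonempty ∧
      ∀ x : U1 ⟶ G, ptOf x ∈ O → ∃ (b' : U1 ⟶ B') (b : U1 ⟶ B), x = (b' ≫ iB') * (b ≫ iB) := by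
  haveI := hT.1; haveI := hT.2.1
  obtain ⟨C, _, c, hc⟩ := exists_centralizer_torus iT hT.2.2.1
  haveI : LocallyOfFiniteType G.hom := inferInstance
  obtain ⟨A, _, _, ⟨eG⟩⟩ := Groth.L25.Bridge.exists_hopf G
  let φ : P k A ⟶ G := eG.inv.hom.hom
  let ψ : G ⟶ P k A := eG.hom.hom.hom
  have hψφ : ψ ≫ φ = 𝟙 G := congrArg (fun f => f.hom.hom) eG.hom_inv_id
  have hφψ : φ ≫ ψ = 𝟙 _ := congrArg (fun f => f.hom.hom) eG.inv_hom_id
  haveI : IsMonHom φ := eG.inv.hom.isMonHom_hom
  haveI : IsMonHom ψ := eG.hom.hom.isMonHom_hom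
  haveI : IsIso φ := ⟨ψ, hφψ, hψφ⟩
  haveI : IsIso ψ := ⟨φ, hψφ, hφψ⟩
  haveI : IsIso φ.left := inferInstanceAs (IsIso ((Over.forget _).map φ))
  haveI : IsIso ψ.left := inferInstanceAs (IsIso ((Over.forget _).map ψ))
  haveI hft : LocallyOfFiniteType (P k A).hom := by rw [← Over.w φ]; infer_instance
  haveI hsm : Smooth (P k A).hom := by rw [← Over.w φ]; infer_instance
  haveI : Algebra.FiniteType k A := by
    change LocallyOfFiniteType (Spec.map (CommRingCat.ofHom (algebraMap k A))) at hft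
    rwa [HasRingHomProperty.Spec_iff (P := @LocallyOfFiniteType), CommRingCat.hom_ofHom,
      RingHom.finiteType_algebraMap] at hft
  haveI : Algebra.Smooth k A := by
    change Smooth (Spec.map (CommRingCat.ofHom (algebraMap k A))) at hsm
    rw [HasRingHomProperty.Spec_iff (P := @Smooth), CommRingCat.hom_ofHom] at hsm
    exact RingHom.smooth_algebraMap.1 hsm
  haveI : Algebra.FinitePresentation k A := Algebra.FinitePresentation.of_finiteType.1 inferInstance
  haveI : ConnectedSpace (PrimeSpectrum A) := ψ.left.homeomorph.surjective.connectedSpace ψ.left.homeomorph.continuous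
  have hconn : ∀ e : A, IsIdempotentElem e → e = 0 ∨ e = 1 := idempotent_trivial
  -- the cocharacter
  obtain ⟨n, ⟨eT⟩⟩ := exists_laurent_of_torus hT.2.2.1
  let b : T ⟶ P k (MonoidAlgebra k (Multiplicative (Fin n → ℤ))) := eT.hom.hom.hom
  let bi : P k (MonoidAlgebra k (Multiplicative (Fin n → ℤ))) ⟶ T := eT.inv.hom.hom
  have hbb : b ≫ bi = 𝟙 T := congrArg (fun f => f.hom.hom) eT.hom_inv_id
  have hbb' : bi ≫ b = 𝟙 _ := congrArg (fun f => f.hom.hom) eT.inv_hom_id
  haveI : IsMonHom bi := eT.inv.hom.isMonHom_hom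
  haveI : IsMonHom b := eT.hom.hom.isMonHom_hom
  obtain ⟨cA, hcA⟩ := exists_sp (bi ≫ iT ≫ ψ)
  let eM := (AddMonoidAlgebra.toMultiplicativeBialgEquiv k k (Fin n → ℤ)).symm
  let φc : A →ₐc[k] AddMonoidAlgebra k (Fin n → ℤ) :=
    (eM : MonoidAlgebra k (Multiplicative (Fin n → ℤ)) →ₐc[k] AddMonoidAlgebra k (Fin n → ℤ)).comp cA
  obtain ⟨w, hw⟩ := Groth.L25.Dyn.exists_cocharacter φc
  let lam := lamW φc w
  obtain ⟨lamNeg, hneg⟩ := Groth.L25.Dyn.exists_neg lam
  -- points through the torus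
  have hsp : ∀ (R : Type u) [CommRing R] [Algebra k R] (x : Pt k A R),
      (∃ y : Pt k (MonoidAlgebra k (Multiplicative (Fin n → ℤ))) R, pre cA y = x) →
      ∃ s : SP k R ⟶ T, s ≫ iT = toPt x ≫ φ := by
    rintro R _ _ _ ⟨y, rfl⟩
    exact ⟨toPt y ≫ bi, by rw [toPt_pre, hcA]; simp only [Category.assoc, hψφ, Category.comp_id]⟩
  have hlamT : ∀ (R : Type u) [CommRing R] [Algebra k R],
      ∃ y : Pt k (MonoidAlgebra k (Multiplicative (Fin n → ℤ))) (LaurentPolynomial R),
        pre cA y = lamP lamNeg R := fun R _ _ => by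
    refine ⟨toConv (((AddMonoidAlgebra.mapAlgHom ℤ (Algebra.ofId k R)).comp
      (LaurentPolynomial.invert (R := k)).toAlgHom).comp
      ((AddMonoidAlgebra.mapDomainBialgHom k w :
        AddMonoidAlgebra k (Fin n → ℤ) →ₐc[k] LaurentPolynomial k).comp
        (eM : MonoidAlgebra k (Multiplicative (Fin n → ℤ)) →ₐc[k] AddMonoidAlgebra k (Fin n → ℤ)) :
          MonoidAlgebra k (Multiplicative (Fin n → ℤ)) →ₐ[k] LaurentPolynomial k)), ?_⟩
    refine WithConv.ext (AlgHom.ext fun a => ?_)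
    show _ = AddMonoidAlgebra.mapAlgHom ℤ (Algebra.ofId k R) ((lamNeg : A →ₐ[k] LaurentPolynomial k) a)
    rw [hneg]
    rfl
  haveI hJp := Groth.L25.Dyn.isHopfIdeal_jPlus lam
  haveI hJm := Groth.L25.Dyn.isHopfIdeal_jU lamNeg
  have hwN : ∀ (R : Type u) [CommRing R] [Algebra k R] (g : A →ₐ[k] R),
      Dyn.conjOrbit k A lamNeg R g = (IsScalarTower.toAlgHom k R (LaurentPolynomial R)).comp g →
        Groth.L25.Dyn.TorCommutes φc g := fun R _ _ g hg => hw R g <| by
    refine (Groth.L25.Dyn.commutes_iff lam g).2 fun m hm x hx => ?_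
    refine (Groth.L25.Dyn.commutes_iff lamNeg g).1 hg (-m) (neg_ne_zero.2 hm) x ?_
    exact (Groth.L25.Dyn.hom_neg lam lamNeg hneg (-m) x).2 (by rwa [neg_neg])
  have hl : ∀ (R : Type u) [CommRing R] [Algebra k R],
      ∃ y : Pt k (MonoidAlgebra k (Multiplicative (Fin n → ℤ))) (LaurentPolynomial R), pre cA y = lamP lam R :=
    fun R _ _ => ⟨toConv ((AddMonoidAlgebra.mapAlgHom ℤ (Algebra.ofId k R)).comp
      ((AddMonoidAlgebra.mapDomainBialgHom k w :
        AddMonoidAlgebra k (Fin n → ℤ) →ₐc[k] LaurentPolynomial k).comp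
        (eM : MonoidAlgebra k (Multiplicative (Fin n → ℤ)) →ₐc[k] AddMonoidAlgebra k (Fin n → ℤ)) :
          MonoidAlgebra k (Multiplicative (Fin n → ℤ)) →ₐ[k] LaurentPolynomial k)), rfl⟩
  obtain ⟨W, _, iw, t, hiw, hiwc, hWs, hWc, hWsol, ht, hWp⟩ :=
    exists_limit_group hT hc φ ψ hφψ hψφ hconn b bi hbb cA hcA lam hw hl
  obtain ⟨W', _, iw', t', hiw', hiwc', hWs', hWc', hWsol', ht', hWp'⟩ :=
    exists_limit_group hT hc φ ψ hφψ hψφ hconn b bi hbb cA hcA lamNeg hwN hlamT
  haveI := hiw; haveI := hiwc; haveI := hWs; haveI := hWc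
  haveI := hiw'; haveI := hiwc'; haveI := hWs'; haveI := hWc'
  haveI : QuasiCompact G.hom := quasiCompact_of_compactSpace _
  obtain ⟨B, _, iB, hB, f, hf⟩ := exists_borel_ge iw hWsol
  obtain ⟨B', _, iB', hB', f', hf'⟩ := exists_borel_ge iw' hWsol'
  let Jp := jPlus lam
  let Jm := jU lamNeg
  let Q : Over (Spec (CommRingCat.of k)) := SP k ((A ⧸ Jm) ⊗[k] (A ⧸ Jp))
  let q : Q ⟶ G := toPt (toConv (Groth.L25.Dyn.mulHom (k := k) Jm Jp)) ≫ φ
  haveI : IsOpenImmersion (toPt (toConv (Groth.L25.Dyn.mulHom (k := k) Jm Jp))).left :=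
    Groth.Agent.S3305.result k A lam lamNeg hneg Jp Jm (Groth.L25.Dyn.represents_jPlus lam)
      (Groth.L25.Dyn.represents_jU lamNeg)
  haveI : IsOpenImmersion q.left := inferInstanceAs (IsOpenImmersion (_ ≫ φ.left))
  haveI : LocallyOfFiniteType Q.hom := by rw [← Over.w q]; infer_instance
  obtain ⟨e, he⟩ := exists_one_mem_cell φ Jm Jp
  refine ⟨B, B', inferInstance, inferInstance, iB, iB', t ≫ f, t' ≫ f', q.left.opensRange, hB, hB',
    by rw [Category.assoc, hf, ht], by rw [Category.assoc, hf', ht'],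
    ⟨q.left (e.left (IsLocalRing.closedPoint k)), ⟨_, rfl⟩⟩, fun x hx => ?_⟩
  let e1 : U1 ≅ SP k k := Over.isoMk (Iso.refl _) (by
    show 𝟙 _ ≫ Spec.map (CommRingCat.ofHom (algebraMap k k)) = 𝟙 _
    rw [Algebra.algebraMap_self, Category.id_comp]; exact Spec.map_id _)
  obtain ⟨z, hz⟩ := exists_pt_lift q x hx
  obtain ⟨χ, hχ⟩ := (Spec.mapMulEquiv (R := k) (S := (A ⧸ Jm) ⊗[k] (A ⧸ Jp)) (T := k)).surjective (e1.inv ≫ z)
  obtain ⟨w', hw'⟩ := hWp' (Groth.L25.Dyn.fstPt χ.ofConv) fun a ha =>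
    Groth.L25.Dyn.fst_kills (Jm := Jm) (Jp := Jp) χ.ofConv a (Ideal.mem_sup_left ha)
  obtain ⟨wp, hwp⟩ := hWp (Groth.L25.Dyn.sndPt χ.ofConv) (Groth.L25.Dyn.snd_kills (Jm := Jm) (Jp := Jp) χ.ofConv)
  refine ⟨e1.hom ≫ w' ≫ f', e1.hom ≫ wp ≫ f, ?_⟩
  simp only [Category.assoc, hf, hf', hw', hwp]
  rw [← MonObj.comp_mul, ← MonObj.mul_comp, ← map_mul, ← Groth.L25.Dyn.comp_mulHom]
  rw [← hz, ← Iso.inv_comp_eq, ← Category.assoc, ← hχ]

  refine (Category.assoc _ _ _).symm.trans (congrArg (· ≫ φ) ?_)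
  refine Over.OverMorphism.ext ?_
  exact (Spec.map_comp _ _).symm

end Groth.L14.Luna
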