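import Groth.Agent.L14.Luna.Core
import Groth.Agent.L15.GenSub.Subgroup
import Groth.Agent.L16.SecComp.Smooth
import Groth.Agent.L25.GeomIrred
import Groth.Agent.L19.AlgGrpBasic.GeomPoint
import Groth.Agent.L08.Borel.Borels
import Groth.Agent.L08.Borel.MaxTori
import Groth.Agent.L08.Borel.Fixed

/-!
# A unipotent subgroup of all Borel subgroups containing a maximal torus lies in a normal unipotent subgroup
-/

set_option autoImplicit false
set_option backward.isDefEq.respectTransparency.types false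
set_option linter.style.haveILetI false
set_option linter.unusedSectionVars false
set_option maxHeartbeats 1000000

universe u

open CategoryTheory CategoryTheory.Limits MonoidalCategory CartesianMonoidalCategory MonObj GrpObj AlgebraicGeometry
open Groth.L08.Borel Groth.L15.GenSub

noncomputable section

namespace Groth.L14.Luna

variable {k : Type u} [Field k] [IsAlgClosed k]

local notation "U1" => 𝟙_ (Over (Spec (CommRingCat.of k)))

theorem pt_conjBy {G B : Over (Spec (CommRingCat.of k))} [GrpObj G] (g : U1 ⟶ G) (i : B ⟶ G) (x : U1 ⟶ B) :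
    x ≫ AGF.conjBy g i = g * (x ≫ i) * g⁻¹ := by
  rw [comp_conjBy]
  simp [AGF.conjBy, toUnit_unique (toUnit U1) (𝟙 _)]

/-- A homomorphism from a connected solvable group without subtori to a torus is trivial. -/
theorem hom_torus_eq_one {H S : Over (Spec (CommRingCat.of k))} [GrpObj H] [GrpObj S] [IsAffine H.left]
    [Smooth H.hom] [ConnectedSpace H.left] (hsol : Red.IsSolvableGrp H) (hH : Red.HasNoSubtorus k H)
    (hS : Red.IsTorus S) (φ : H ⟶ S) [IsMonHom φ] : φ = 1 := by
  obtain ⟨T, gT, iT, p, hm, hmono, hT, hp, hip, huniv, -⟩ := exists_torus_absorbing hsol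
  haveI := hm; haveI := hmono; haveI := hp
  haveI : IsIso T.hom := hH T iT hT
  haveI : IsIso ((Over.forget _).map (toUnit T)) := (inferInstance : IsIso T.hom)
  haveI : IsIso (toUnit T) := isIso_of_reflects_iso (toUnit T) (Over.forget _)
  have h1 : iT ≫ φ = 1 := by
    have e : (1 : U1 ⟶ T) = inv (toUnit T) := by
      rw [← cancel_mono (toUnit T)]; exact toUnit_unique _ _
    calc iT ≫ φ = toUnit T ≫ inv (toUnit T) ≫ iT ≫ φ := (IsIso.hom_inv_id_assoc (toUnit T) (iT ≫ φ)).symm
      _ = 1 := by rw [← e, MonObj.one_comp, MonObj.comp_one]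
  rw [huniv S φ hS, h1, MonObj.comp_one]

theorem isTrivialGrp_of_id_eq_one {S : Over (Spec (CommRingCat.of k))} [GrpObj S] (h : 𝟙 S = 1) :
    Red.IsTrivialGrp S := by
  haveI : IsIso (toUnit S) := ⟨(1 : U1 ⟶ S), by rw [MonObj.comp_one, ← h], toUnit_unique _ _⟩
  exact (inferInstance : IsIso ((Over.forget _).map (toUnit S)))

theorem exists_pt_wMap {X G : Over (Spec (CommRingCat.of k))} [GrpObj G] (f : X ⟶ G) (x₀ : U1 ⟶ X)
    (hx₀ : x₀ ≫ f = 1) : ∀ l : List Bool, ∃ o : U1 ⟶ WObj X l, o ≫ wMap f l = 1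
  | [] => ⟨𝟙 _, by simp [wMap]⟩
  | b :: l => by
    obtain ⟨o, ho⟩ := exists_pt_wMap f x₀ hx₀ l
    refine ⟨(lift x₀ o : U1 ⟶ X ⊗ WObj X l), ?_⟩
    show lift x₀ o ≫ ((fst X (WObj X l) ≫ (if b then f else f⁻¹)) * (snd X (WObj X l) ≫ wMap f l)) = 1
    rw [MonObj.comp_mul, lift_fst_assoc, lift_snd_assoc, ho, _root_.mul_one]
    cases b <;> simp [GrpObj.comp_inv, hx₀]

theorem irreducibleSpace_WObj {X : Over (Spec (CommRingCat.of k))} [LocallyOfFiniteType X.hom]
    [IrreducibleSpace X.left] : ∀ l : List Bool, IrreducibleSpace (WObj X l).left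
  | [] => inferInstanceAs (IrreducibleSpace (PrimeSpectrum k))
  | _ :: l => by
    haveI := irreducibleSpace_WObj (X := X) l
    haveI := Groth.L25.GeomIrred.geometricallyIrreducible_of_isAlgClosed X.hom
    exact Groth.L19.AlgGrpBasic.irreducibleSpace_tensor X (WObj X l)

theorem wMap_eq_one_of_comp {X B S : Over (Spec (CommRingCat.of k))} [GrpObj B] [GrpObj S] (f : X ⟶ B)
    (p : B ⟶ S) [IsMonHom p] (hf : f ≫ p = 1) : ∀ l : List Bool, wMap f l ≫ p = 1
  | [] => MonObj.one_comp p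
  | b :: l => by
    show ((fst X (WObj X l) ≫ (if b then f else f⁻¹)) * (snd X (WObj X l) ≫ wMap f l)) ≫ p = 1
    rw [MonObj.mul_comp, Category.assoc, Category.assoc, wMap_eq_one_of_comp f p hf l, MonObj.comp_one,
      _root_.mul_one]
    cases b <;> simp [GrpObj.inv_comp, hf]

theorem wMap_comp {X B G : Over (Spec (CommRingCat.of k))} [GrpObj B] [GrpObj G] (f : X ⟶ B)
    (i : B ⟶ G) [IsMonHom i] : ∀ l : List Bool, wMap f l ≫ i = wMap (f ≫ i) l
  | [] => MonObj.one_comp i
  | b :: l => by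
    show ((fst X (WObj X l) ≫ (if b then f else f⁻¹)) * (snd X (WObj X l) ≫ wMap f l)) ≫ i =
      (fst X (WObj X l) ≫ (if b then (f ≫ i) else (f ≫ i)⁻¹)) * (snd X (WObj X l) ≫ wMap (f ≫ i) l)
    rw [MonObj.mul_comp, Category.assoc, Category.assoc, wMap_comp f i l]
    cases b <;> simp [GrpObj.inv_comp]

/-- **Chevalley–Luna**: a smooth connected subgroup without subtori contained in all Borel subgroups containing a
maximal torus is contained in a normal smooth connected subgroup without subtori. -/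
theorem exists_normal {G T H : Over (Spec (CommRingCat.of k))} [GrpObj G] [GrpObj T] [GrpObj H]
    [IsAffine G.left] [Smooth G.hom] [ConnectedSpace G.left] {iT : T ⟶ G} (hT : AGF.IsMaxTorus iT)
    (j : H ⟶ G) [IsMonHom j] [IsClosedImmersion j.left] [Smooth H.hom] [ConnectedSpace H.left]
    (hHns : Red.HasNoSubtorus k H)
    (hH : ∀ (B : Over (Spec (CommRingCat.of k))) [GrpObj B] (iB : B ⟶ G) (t : T ⟶ B),
      Red.IsBorelOver k iB → t ≫ iB = iT → ∃ f : H ⟶ B, f ≫ iB = j) :
    ∃ (N : Over (Spec (CommRingCat.of k))) (_ : GrpObj N) (n : N ⟶ G), IsMonHom n ∧ IsClosedImmersion n.left ∧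
      Smooth N.hom ∧ ConnectedSpace N.left ∧ AlgGrp.IsNormalHom n ∧ Red.HasNoSubtorus k N ∧
      ∃ f : H ⟶ N, f ≫ n = j := by
  haveI : LocallyOfFiniteType G.hom := inferInstance
  haveI : IsAffine H.left := isAffine_of_isAffineHom j.left
  haveI : LocallyOfFiniteType H.hom := inferInstance
  let X := G ⊗ H
  let f : X ⟶ G := fst G H * (snd G H ≫ j) * (fst G H)⁻¹
  have hf : ∀ {Y : Over (Spec (CommRingCat.of k))} (z : Y ⟶ X),
      z ≫ f = (z ≫ fst G H) * ((z ≫ snd G H) ≫ j) * (z ≫ fst G H)⁻¹ := fun {Y} z => by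
    simp only [f, MonObj.comp_mul, GrpObj.comp_inv, Category.assoc]
  haveI : IrreducibleSpace G.left := Groth.L25.ConnIrred.irreducibleSpace G
  haveI : IrreducibleSpace H.left := Groth.L25.ConnIrred.irreducibleSpace H
  haveI := Groth.L25.GeomIrred.geometricallyIrreducible_of_isAlgClosed G.hom
  haveI : IrreducibleSpace X.left := Groth.L19.AlgGrpBasic.irreducibleSpace_tensor G H
  haveI : Smooth X.hom := inferInstanceAs (Smooth (pullback.fst G.hom H.hom ≫ G.hom))
  haveI : LocallyOfFiniteType X.hom := inferInstance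
  haveI : IsReduced X.left := Groth.Agent.AV.isReduced_of_smooth_field X.hom
  haveI := Groth.L16.SecComp.geometricallyReduced_of_smooth X.hom
  obtain ⟨N, gN, n, hn, hnc, ⟨f', hf'⟩, hgred, hmin, h, hh, hdom⟩ := exists_generated f
  haveI := hn; haveI := hnc; haveI := hgred
  haveI : Mono n := Over.mono_of_mono_left n
  haveI hNred : IsReduced N.left :=
    @dom_isReduced _ _ _ _ hdom fun l => (redProd_WObj l.down).isReduced
  haveI : LocallyOfFiniteType N.hom := by rw [← Over.w n]; infer_instance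
  haveI : IsAffine N.left := isAffine_of_isAffineHom n.left
  have hNs : Smooth N.hom := smooth_of_reduced_group N
  haveI := hNs
  -- connectedness
  have hconn : ConnectedSpace N.left := by
    have hx₀ : (lift 1 1 : U1 ⟶ X) ≫ f = 1 := by
      rw [hf, lift_fst, lift_snd]; simp [MonObj.one_comp]
    have hmem : ∀ l, ptOf (1 : U1 ⟶ N) ∈ Set.range (h l).left := fun l => by
      obtain ⟨o, ho⟩ := exists_pt_wMap f _ hx₀ l.down
      have e : o ≫ h l = 1 := by rw [← cancel_mono n, Category.assoc, hh, ho, MonObj.one_comp]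
      exact ⟨ptOf o, congrArg ptOf e⟩
    have hpre : _root_.IsPreconnected (closure (⋃ l, Set.range (h l).left)) := by
      refine (isPreconnected_iUnion ⟨ptOf (1 : U1 ⟶ N), Set.mem_iInter.2 hmem⟩ fun l => ?_).closure
      haveI := irreducibleSpace_WObj (X := X) l.down
      exact isPreconnected_range (h l).left.continuous
    rw [(dom_dense hdom).closure_eq] at hpre
    exact { toPreconnectedSpace := ⟨hpre⟩, toNonempty := ⟨ptOf (1 : U1 ⟶ N)⟩ }
  haveI := hconn
  -- normality
  have hconj : ∀ g : U1 ⟶ G, ∃ c : N ⟶ N, c ≫ n = AGF.conjBy g n := by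
    intro g
    haveI := isMonHom_conjBy g⁻¹ n
    haveI := isClosedImmersion_conjBy g⁻¹ n
    obtain ⟨c, hc⟩ := hmin N gN (AGF.conjBy g⁻¹ n) inferInstance inferInstance
      ⟨lift ((toUnit X ≫ g) * fst G H) (snd G H) ≫ f', by
        rw [comp_conjBy, Category.assoc, hf', hf, lift_fst, lift_snd]
        simp only [AGF.conjBy, f, GrpObj.comp_inv, _root_.mul_inv_rev, _root_.inv_inv]
        group⟩
    refine ⟨c, ?_⟩
    rw [comp_conjBy] at hc
    conv_rhs => rw [← hc]
    rw [conjBy_conjBy, mul_inv_cancel, conjBy_one]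
  have hnorm : AlgGrp.IsNormalHom n := by
    intro Y g y
    let Z := G ⊗ N
    haveI : Smooth Z.hom := inferInstanceAs (Smooth (pullback.fst G.hom N.hom ≫ G.hom))
    haveI : IsReduced Z.left := Groth.Agent.AV.isReduced_of_smooth_field Z.hom
    obtain ⟨c, hc⟩ := exists_lift_of_points n (fst G N * (snd G N ≫ n) * (fst G N)⁻¹) fun z => by
      obtain ⟨c, hc⟩ := hconj (z ≫ fst G N)
      refine ⟨(z ≫ snd G N) ≫ c, ?_⟩
      rw [Category.assoc, hc, comp_conjBy]
      simp [AGF.conjBy, toUnit_unique (toUnit U1) (𝟙 _), MonObj.comp_mul, GrpObj.comp_inv]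
    refine ⟨lift g y ≫ c, ?_⟩
    rw [Category.assoc, hc]
    simp [MonObj.comp_mul, GrpObj.comp_inv]
  refine ⟨N, gN, n, hn, hnc, hNs, hconn, hnorm, ?_, ⟨lift 1 (𝟙 H) ≫ f', ?_⟩⟩
  swap
  · rw [Category.assoc, hf', hf, lift_fst, lift_snd]; simp
  -- no subtori
  obtain ⟨B, gB, iB, hB⟩ := exists_borel G
  haveI := hB.1; haveI := hB.2.1; haveI := hB.2.2.1; haveI := hB.2.2.2.1
  haveI : IsAffine B.left := isAffine_of_isAffineHom iB.left
  haveI : Mono iB := Over.mono_of_mono_left iB
  obtain ⟨fB, hfB⟩ := exists_lift_of_points iB f fun z => by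
    have hB' := isBorelOver_conjBy hB (z ≫ fst G H)⁻¹
    obtain ⟨e, he⟩ := exists_factor_borel hT j hHns hH _ hB'
    refine ⟨z ≫ snd G H ≫ e ≫ 𝟙 B, ?_⟩
    have h1 : (z ≫ snd G H) ≫ j = (z ≫ fst G H)⁻¹ * (((z ≫ snd G H) ≫ e) ≫ iB) * (z ≫ fst G H) := by
      rw [← he, ← Category.assoc (z ≫ snd G H), pt_conjBy, _root_.inv_inv]
    rw [hf, h1, Category.comp_id]
    simp only [Category.assoc]
    group
  obtain ⟨q, hq⟩ := hmin B gB iB hB.1 hB.2.1 ⟨fB, hfB⟩
  haveI : IsMonHom q := isMonHom_of_comp_mono q iB n hq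
  obtain ⟨T', gT', iT', p, hTm, hTmono, hT', hp, hip, -, habs, -⟩ := exists_absorbing_of_borel hB
  haveI := hTm; haveI := hTmono; haveI := hp
  obtain ⟨hT'a, hT's, hT'c, -, hT'comm⟩ := torus_props hT'
  haveI := hT'a; haveI := hT's
  haveI : IsSeparated T'.hom := inferInstance
  obtain ⟨jB, hjB⟩ : ∃ jB : H ⟶ B, jB ≫ iB = j :=
    ⟨lift 1 (𝟙 H) ≫ fB, by rw [Category.assoc, hfB, hf, lift_fst, lift_snd]; simp⟩
  haveI : IsMonHom jB := isMonHom_of_comp_mono jB iB j hjB
  have hfp : fB ≫ p = 1 := by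
    refine hom_ext_pts _ _ fun z => ?_
    let g := z ≫ fst G H
    obtain ⟨e, he⟩ := exists_factor_borel hT j hHns hH _ (isBorelOver_conjBy hB g⁻¹)
    haveI := isMonHom_conjBy g⁻¹ iB
    haveI := mono_conjBy g⁻¹ iB
    haveI : IsMonHom e := isMonHom_of_comp_mono e _ j he
    have hsol : Red.IsSolvableGrp H := by
      haveI : Mono e := by
        haveI : Mono (e ≫ AGF.conjBy g⁻¹ iB) := he ▸ Over.mono_of_mono_left j
        exact mono_of_mono e (AGF.conjBy g⁻¹ iB)
      exact isSolvableGrp_of_mono e hB.2.2.2.2.1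
    have e1 : z ≫ fB = (z ≫ snd G H) ≫ e := by
      have h1 : (z ≫ snd G H) ≫ j = g⁻¹ * (((z ≫ snd G H) ≫ e) ≫ iB) * g := by
        rw [← he, ← Category.assoc (z ≫ snd G H), pt_conjBy, _root_.inv_inv]
      rw [← cancel_mono iB, Category.assoc, hfB, hf, h1]
      simp only [g]
      group
    rw [← Category.assoc, e1, Category.assoc, hom_torus_eq_one hsol hHns hT' (e ≫ p), MonObj.comp_one,
      MonObj.comp_one]
  have hqp : q ≫ p = 1 := by
    refine hom_ext_pts _ _ fun z => ?_
    haveI : LocallyOfFiniteType T'.hom := inferInstance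
    refine pt_ext ?_
    rw [MonObj.comp_one]
    have hcl : IsClosed ((q ≫ p).left ⁻¹' {ptOf (1 : U1 ⟶ T')}) :=
      (isClosed_pt _).preimage (q ≫ p).left.continuous
    refine closure_minimal (Set.iUnion_subset fun l => ?_) hcl ((dom_dense hdom).closure_eq.ge trivial :
      ptOf z ∈ closure (⋃ l, Set.range (h l).left))
    rintro _ ⟨w, rfl⟩
    have e : h l ≫ q ≫ p = 1 := by
      have e2 : h l ≫ q = wMap fB l.down := by
        rw [← cancel_mono iB, Category.assoc, hq, hh, wMap_comp, hfB]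
      rw [reassoc_of% e2, wMap_eq_one_of_comp fB p hfp]
    have e3 : (h l ≫ q ≫ p).left w = (toUnit _ ≫ (1 : U1 ⟶ T')).left w := by rw [e, MonObj.comp_one]
    refine e3.trans ?_
    exact congrArg (1 : U1 ⟶ T').left (Subsingleton.elim (α := PrimeSpectrum k) _ _)
  intro S gS jS _ _ hS
  haveI : Mono q := by
    haveI : Mono (q ≫ iB) := hq ▸ inferInstance
    exact mono_of_mono q iB
  obtain ⟨g, φ, hφ⟩ := habs S (jS ≫ q) hS
  have h1 : φ = 1 := by
    calc φ = φ ≫ iT' ≫ p := by rw [hip, Category.comp_id]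
      _ = AGF.conjBy g (jS ≫ q) ≫ p := by rw [← Category.assoc, hφ]
      _ = 1 := by
        rw [conjBy_comp, Category.assoc, hqp, MonObj.comp_one]
        simp [AGF.conjBy]
  have h2 : jS ≫ q = 1 := by
    have h3 := congrArg (AGF.conjBy g⁻¹) hφ
    rw [conjBy_conjBy, inv_mul_cancel, conjBy_one, h1, MonObj.one_comp] at h3
    rw [← h3]; simp [AGF.conjBy]
  refine isTrivialGrp_of_id_eq_one ?_
  rw [← cancel_mono jS, ← cancel_mono q, Category.id_comp, MonObj.one_comp, MonObj.one_comp, h2]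

end Groth.L14.Luna
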