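import Groth.Agent.L14.Luna.CentRed
import Groth.Agent.L25.ConjAction
import Groth.Agent.L25.Locus.Fixed
import Groth.Agent.L25.Locus.FixedConn

/-!
# The unipotent radical of the centralizer of a torus
-/

set_option autoImplicit false
set_option backward.isDefEq.respectTransparency.types false
set_option linter.style.haveILetI false
set_option linter.unusedSectionVars false
set_option maxHeartbeats 1000000

universe u

open CategoryTheory CategoryTheory.Limits MonoidalCategory CartesianMonoidalCategory MonObj GrpObj AlgebraicGeometry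
open Groth.L08.Borel

noncomputable section

namespace Groth.L14.Luna

variable {k : Type u} [Field k]

/-- The traces of a normal smooth connected affine subgroup on centralizers of tori are smooth and connected. -/
theorem smooth_connected_trace {G S C U V : Over (Spec (CommRingCat.of k))} [GrpObj G] [GrpObj S] [GrpObj C]
    [GrpObj U] {iS : S ⟶ G} [IsMonHom iS] (hS : Red.IsTorus S) {c : C ⟶ G}
    (hc : Red.IsCentralizerOf iS c) (u : U ⟶ G) [IsMonHom u] [Mono u] (hu : AlgGrp.IsNormalHom u)
    [IsAffine U.left] [Smooth U.hom] [ConnectedSpace U.left] {w : V ⟶ U} {v : V ⟶ C}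
    (hV : IsPullback w v u c) : Smooth V.hom ∧ ConnectedSpace V.left := by
  haveI := hc.2.1
  obtain ⟨act, hact⟩ := hu (S ⊗ U) (fst S U ≫ iS) (snd S U)
  have hlift : ∀ {X : Over (Spec (CommRingCat.of k))} (q : X ⟶ S) (x : X ⟶ U),
      (lift q x ≫ act) ≫ u = (q ≫ iS) * (x ≫ u) * (q ≫ iS)⁻¹ := fun {X} q x => by
    rw [Category.assoc, ← hact]
    simp only [MonObj.comp_mul, GrpObj.comp_inv, lift_fst_assoc, lift_snd_assoc]
  have hd : act ≫ u = (fst S U ≫ iS) * (snd S U ≫ u) * (fst S U ≫ iS)⁻¹ := hact.symm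
  let a : AlgGrp.Action S U :=
    { act := act
      one_act := by
        rw [← cancel_mono u, Category.assoc, hd]
        simp only [MonObj.comp_mul, GrpObj.comp_inv, whiskerRight_fst_assoc, whiskerRight_snd_assoc,
          IsMonHom.one_hom, leftUnitor_hom]
        rw [show fst (𝟙_ (Over (Spec (CommRingCat.of k)))) U ≫ η[G] = 1 by
          rw [Hom.one_def, toUnit_unique (fst (𝟙_ _) U) (toUnit _)], _root_.one_mul, inv_one, _root_.mul_one]
      mul_act := by
        rw [← cancel_mono u, Category.assoc, hd, Category.assoc, Category.assoc, hd]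
        simp only [MonObj.comp_mul, GrpObj.comp_inv, MonObj.mul_eq_mul, whiskerRight_fst_assoc, whiskerRight_snd_assoc,
          whiskerLeft_fst_assoc, whiskerLeft_snd_assoc, associator_hom_fst_assoc, associator_hom_snd_fst_assoc,
          associator_hom_snd_snd_assoc, MonObj.mul_comp, hd]
        rw [_root_.mul_inv_rev]
        simp only [_root_.mul_assoc] }
  have hfix : ∀ (X : Over (Spec (CommRingCat.of k))) (x : X ⟶ U), (∃ z : X ⟶ V, z ≫ w = x) ↔
      ∀ (X' : Over (Spec (CommRingCat.of k))) (g : X' ⟶ X) (q : X' ⟶ S), lift q (g ≫ x) ≫ a.act = g ≫ x := by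
    intro X x
    constructor
    · rintro ⟨z, rfl⟩ X' g q
      rw [← cancel_mono u]
      show (lift q (g ≫ z ≫ w) ≫ act) ≫ u = _
      rw [hlift, Category.assoc, Category.assoc, hV.w]
      have := (hc.2.2 X' ((g ≫ z ≫ v) ≫ c)).1 ⟨_, rfl⟩ X' (𝟙 X') q
      rw [Category.id_comp] at this
      simp only [Category.assoc] at this ⊢
      rw [← this, mul_inv_cancel_right]
    · intro h
      obtain ⟨z, hz⟩ := (hc.2.2 X (x ≫ u)).2 fun X' g q => by
        have := congrArg (· ≫ u) (h X' g q)
        rw [show lift q (g ≫ x) ≫ a.act = lift q (g ≫ x) ≫ act from rfl, hlift, mul_inv_eq_iff_eq_mul] at this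
        rw [← Category.assoc g x u]; exact this.symm
      obtain ⟨e, he, -⟩ := hV.exists_lift x z hz.symm
      exact ⟨e, he⟩
  haveI : Mono w := ⟨fun {X} p q e => hV.hom_ext e (by
    rw [← cancel_mono c, Category.assoc, Category.assoc, ← hV.w, reassoc_of% e])⟩
  haveI : IsSeparated U.hom := inferInstance
  haveI : LocallyOfFiniteType U.hom := inferInstance
  obtain ⟨F, i, hi, hlfp, hF⟩ := Groth.L25.Locus.exists_fixedLocus a
    (Groth.L25.Locus.locally_of_multTypeFT (Groth.L25.Locus.isMultTypeFT_of_isTorus hS))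
  haveI := hi
  haveI : Mono i := Over.mono_of_mono_left i
  haveI := hlfp inferInstance
  obtain ⟨φ, hφ⟩ := (hF V w).2 fun X' t q => (hfix V w).1 ⟨𝟙 V, Category.id_comp w⟩ X' t q
  obtain ⟨ψ, hψ⟩ := (hfix F i).2 fun X' t q => (hF F i).1 ⟨𝟙 F, Category.id_comp i⟩ X' t q
  haveI : IsIso φ := ⟨ψ, by rw [← cancel_mono w, Category.assoc, hψ, hφ, Category.id_comp],
    by rw [← cancel_mono i, Category.assoc, hφ, hψ, Category.id_comp]⟩
  haveI : IsIso φ.left := inferInstanceAs (IsIso ((Over.forget _).map φ))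
  haveI : Smooth F.hom := Groth.L25.Locus.smooth_fixedLocus a
    (Groth.L25.Locus.locally_of_multTypeFT (Groth.L25.Locus.isMultTypeFT_of_isTorus hS)) i hF
  refine ⟨by rw [← Over.w φ]; infer_instance, Groth.L25.Locus.connectedSpace_fixed hS a ?_ w hfix⟩
  intro X q h h'
  rw [← cancel_mono u]
  show (lift q (h * h') ≫ act) ≫ u = ((lift q h ≫ act) * (lift q h' ≫ act)) ≫ u
  rw [MonObj.mul_comp, hlift, hlift, hlift, MonObj.mul_comp]
  group

variable [IsAlgClosed k]

/-- The unipotent radical of the centralizer of a subtorus is the trace of the unipotent radical. -/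
theorem isUnipotentRadical_trace {G S C U V : Over (Spec (CommRingCat.of k))} [GrpObj G] [GrpObj S] [GrpObj C]
    [GrpObj U] [GrpObj V] [IsAffine G.left] [Smooth G.hom] [ConnectedSpace G.left]
    {iS : S ⟶ G} [IsMonHom iS] [Mono iS] (hS : Red.IsTorus S) {c : C ⟶ G}
    (hc : Red.IsCentralizerOf iS c) {u : U ⟶ G} (hU : Par.IsUnipotentRadical u) {v : V ⟶ C} [IsMonHom v]
    {w : V ⟶ U} (hV : IsPullback w v u c) : Par.IsUnipotentRadical v := by
  obtain ⟨hum, huc, hun, hus, hucon, huns⟩ := unipotentRadical_data hU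
  haveI := hum; haveI := huc; haveI := hus; haveI := hucon
  haveI : IsAffine U.left := isAffine_of_isAffineHom u.left
  haveI : Mono u := Over.mono_of_mono_left u
  obtain ⟨hcc, hCa, hCs, hCc, -, -⟩ := centralizer_props hS hc
  haveI := hcc; haveI := hCa; haveI := hCs; haveI := hCc; haveI := hc.1; haveI := hc.2.1
  obtain ⟨hVs, hVc⟩ := smooth_connected_trace hS hc u hun hV
  haveI := hVs
  haveI : IsClosedImmersion v.left :=
    MorphismProperty.of_isPullback (P := @IsClosedImmersion) (hV.map (Over.forget _)) huc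
  haveI : IsAffine V.left := isAffine_of_isAffineHom v.left
  haveI : QuasiCompact V.hom := quasiCompact_of_compactSpace _
  haveI : IsMonHom w := isMonHom_of_comp_mono w u (v ≫ c) hV.w
  haveI : Mono w := ⟨fun {X} p q e => hV.hom_ext e (by
    rw [← cancel_mono c, Category.assoc, Category.assoc, ← hV.w, reassoc_of% e])⟩
  have hvn : AlgGrp.IsNormalHom v := fun X g n => by
    obtain ⟨m, hm⟩ := hun X (g ≫ c) (n ≫ w)
    obtain ⟨e, -, he⟩ := hV.exists_lift m (g * (n ≫ v) * g⁻¹) (by
      rw [← hm, MonObj.mul_comp, MonObj.mul_comp, GrpObj.inv_comp, Category.assoc, Category.assoc, hV.w])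
    exact ⟨e, he.symm⟩
  refine isUnipotentRadical_of v hvn hVc (hasNoSubtorus_of_mono w huns)
    fun U' _ u' _ hc' hn' hs' hq' hcon' hns' => ?_
  haveI := hc'; haveI := hs'; haveI := hcon'
  haveI : IsAffine U'.left := isAffine_of_isAffineHom u'.left
  obtain ⟨T, gT, iT, hT, f, hf⟩ := exists_maxTorus_ge iS hS
  haveI : IsClosedImmersion (u' ≫ c).left := inferInstanceAs (IsClosedImmersion (u'.left ≫ c.left))
  obtain ⟨g, hg⟩ := le_radical hU hT (u' ≫ c) fun B _ iB t hB ht W _ ω hW => by
    obtain ⟨b, hb⟩ := normal_centralizer_le_borel hS hc u' hn' hns' f hf hB t ht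
    haveI := hB.1; haveI := hB.2.1; haveI := hB.2.2.1; haveI := hB.2.2.2.1
    haveI : Mono iB := Over.mono_of_mono_left iB
    haveI : IsAffine B.left := isAffine_of_isAffineHom iB.left
    haveI : IsMonHom b := isMonHom_of_comp_mono b iB (u' ≫ c) hb
    obtain ⟨T', gT', iT', p, W₀, gW₀, ω₀, hm, hmono, hT', hp, -, hW₀, -, hker⟩ :=
      exists_retraction_radical B hB.2.2.2.2.1
    haveI := hp
    obtain ⟨y, hy⟩ := hker U' b (hom_torus_eq_one (isSolvableGrp_of_noSubtorus U' hns') hns' hT' (b ≫ p))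
    obtain ⟨h1, h2, h3, h4, h5, h6⟩ := unipotentRadical_data hW₀
    haveI := h1; haveI := h2; haveI := h4
    haveI : IsAffine W₀.left := isAffine_of_isAffineHom ω₀.left
    haveI : QuasiCompact W₀.hom := quasiCompact_of_compactSpace _
    obtain ⟨r, hr⟩ := exists_factor_unipotentRadical hW ω₀ h3 h5 h6
    exact ⟨y ≫ r, by rw [Category.assoc, reassoc_of% hr, ← Category.assoc, hy, hb]⟩
  obtain ⟨e, -, he⟩ := hV.exists_lift g u' hg
  exact ⟨e, he⟩

end Groth.L14.Luna
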