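import Groth.Agent.L14.Luna.CentRed
import Groth.Agent.L08.Borel.TorusImage
import Groth.Agent.L08.Borel.CartanImage
import Groth.Agent.L08.Borel.GenNilp
import Groth.Agent.L08.Chev.Comp

/-!
# The unipotent radical maps onto the unipotent radical
-/

set_option autoImplicit false
set_option backward.isDefEq.respectTransparency.types false
set_option linter.style.haveILetI false
set_option linter.unusedSectionVars false
set_option maxHeartbeats 1000000

universe u

open CategoryTheory CategoryTheory.Limits MonoidalCategory CartesianMonoidalCategory MonObj GrpObj AlgebraicGeometry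
open Groth.L08.Borel

noncomputable section

namespace Groth.L14.Luna

variable {k : Type u} [Field k] [IsAlgClosed k]

local notation "U1" => 𝟙_ (Over (Spec (CommRingCat.of k)))

/-- A homomorphism from a torus to a connected affine group without subtori is trivial. -/
theorem hom_from_torus_eq_one {S U : Over (Spec (CommRingCat.of k))} [GrpObj S] [GrpObj U] [IsAffine U.left]
    [Smooth U.hom] (hS : Red.IsTorus S) (hU : Red.HasNoSubtorus k U) (f : S ⟶ U) [IsMonHom f] : f = 1 := by
  obtain ⟨ha, hs, hc, -, -⟩ := torus_props hS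
  haveI := ha; haveI := hs; haveI := hc
  haveI : QuasiCompact S.hom := quasiCompact_of_compactSpace _
  obtain ⟨C, gC, p, i, hp, hi, hpi, hps, hic, hCs, hCc, -⟩ := exists_image_smooth f
  haveI := hp; haveI := hi; haveI := hps; haveI := hic; haveI := hCs
  haveI : IsAffine C.left := isAffine_of_isAffineHom i.left
  haveI : IsReduced C.left := Groth.Agent.AV.isReduced_of_smooth_field C.hom
  haveI : Mono i := Over.mono_of_mono_left i
  rw [← hpi, ← Category.id_comp i, id_eq_one_of_isTrivialGrp (hU C i (isTorus_of_surjective_torus hS p)),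
    MonObj.one_comp, MonObj.comp_one]

/-- A surjective image of a connected group without subtori has no subtori. -/
theorem hasNoSubtorus_image {U I : Over (Spec (CommRingCat.of k))} [GrpObj U] [GrpObj I] [IsAffine U.left]
    [Smooth U.hom] [ConnectedSpace U.left] [IsAffine I.left] [Smooth I.hom] [ConnectedSpace I.left]
    (hU : Red.HasNoSubtorus k U) (q : U ⟶ I) [IsMonHom q] [Surjective q.left] (hI : Red.IsSolvableGrp I) :
    Red.HasNoSubtorus k I := by
  intro S _ j _ _ hS
  obtain ⟨T, gT, iT, p, hm, hmono, hT, hp, hip, -, habs⟩ := exists_torus_absorbing hI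
  haveI := hm; haveI := hmono; haveI := hp
  obtain ⟨hTa, hTs, -, -, -⟩ := torus_props hT
  haveI := hTa; haveI := hTs
  haveI : IsReduced I.left := Groth.Agent.AV.isReduced_of_smooth_field I.hom
  have hq : q ≫ p = 1 := hom_torus_eq_one (isSolvableGrp_of_noSubtorus U hU) hU hT (q ≫ p)
  haveI : LocallyOfFiniteType U.hom := inferInstance
  have hp1 : p = 1 := by
    refine hom_ext_pts _ _ fun y => ?_
    obtain ⟨x, rfl⟩ := exists_pt_lift q y (q.left.surjective _)
    rw [Category.assoc, hq, MonObj.comp_one, MonObj.comp_one]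
  obtain ⟨g, φ, hφ⟩ := habs S j hS
  have h1 : φ = 1 := by
    rw [← Category.comp_id φ, ← hip, hp1, MonObj.comp_one, MonObj.comp_one]
  have h3 := congrArg (AGF.conjBy g⁻¹) hφ
  rw [conjBy_conjBy, inv_mul_cancel, conjBy_one, h1, MonObj.one_comp] at h3
  refine isTrivialGrp_of_id_eq_one ?_
  rw [← cancel_mono j, Category.id_comp, MonObj.one_comp, ← h3]
  simp [AGF.conjBy]

/-- **The unipotent radical maps onto the unipotent radical.** -/
theorem exists_surjective_radicals {G G' U U' : Over (Spec (CommRingCat.of k))} [GrpObj G] [GrpObj G'] [GrpObj U]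
    [GrpObj U'] [IsAffine G.left] [Smooth G.hom] [ConnectedSpace G.left] [IsAffine G'.left] [Smooth G'.hom]
    [ConnectedSpace G'.left] (π : G ⟶ G') [IsMonHom π] [Surjective π.left] {u : U ⟶ G}
    (hU : Par.IsUnipotentRadical u) {u' : U' ⟶ G'} (hU' : Par.IsUnipotentRadical u') :
    ∃ f : U ⟶ U', f ≫ u' = u ≫ π ∧ Surjective f.left := by
  obtain ⟨hum, huc, hun, hus, hucon, huns⟩ := unipotentRadical_data hU
  haveI := hum; haveI := huc; haveI := hus; haveI := hucon
  obtain ⟨hum', huc', hun', hus', hucon', huns'⟩ := unipotentRadical_data hU'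
  haveI := hum'; haveI := huc'; haveI := hus'; haveI := hucon'
  haveI : IsAffine U.left := isAffine_of_isAffineHom u.left
  haveI : IsAffine U'.left := isAffine_of_isAffineHom u'.left
  haveI : LocallyOfFiniteType G.hom := inferInstance
  haveI : LocallyOfFiniteType G'.hom := inferInstance
  haveI : LocallyOfFiniteType U.hom := inferInstance
  haveI : LocallyOfFiniteType U'.hom := inferInstance
  haveI : QuasiCompact U.hom := quasiCompact_of_compactSpace _
  haveI : QuasiCompact U'.hom := quasiCompact_of_compactSpace _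
  haveI : Mono u' := Over.mono_of_mono_left u'
  haveI : Mono u := Over.mono_of_mono_left u
  -- the image of the radical
  obtain ⟨I, gI, q, i, hq, hi, hqi, hqs, hic, hIs, hIc, hIsol⟩ := exists_image_smooth (u ≫ π)
  haveI := hq; haveI := hi; haveI := hqs; haveI := hic; haveI := hIs; haveI := hIc
  haveI : IsAffine I.left := isAffine_of_isAffineHom i.left
  haveI : QuasiCompact I.hom := quasiCompact_of_compactSpace _
  haveI : Mono i := Over.mono_of_mono_left i
  have hin : AlgGrp.IsNormalHom i := by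
    intro Y g y
    let Z := G' ⊗ I
    haveI : Smooth Z.hom := inferInstanceAs (Smooth (pullback.fst G'.hom I.hom ≫ G'.hom))
    haveI : IsReduced Z.left := Groth.Agent.AV.isReduced_of_smooth_field Z.hom
    obtain ⟨c, hc⟩ := exists_lift_of_points i (fst G' I * (snd G' I ≫ i) * (fst G' I)⁻¹) fun z => by
      obtain ⟨g₀, hg₀⟩ := exists_pt_lift π (z ≫ fst G' I) (π.left.surjective _)
      obtain ⟨x, hx⟩ := exists_pt_lift q (z ≫ snd G' I) (q.left.surjective _)
      obtain ⟨x', hx'⟩ := hun U1 g₀ x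
      refine ⟨x' ≫ q, ?_⟩
      rw [Category.assoc, hqi, ← Category.assoc, ← hx', MonObj.mul_comp, MonObj.mul_comp, GrpObj.inv_comp, hg₀,
        Category.assoc, ← hqi, reassoc_of% hx]
      simp [MonObj.comp_mul, GrpObj.comp_inv]
    refine ⟨lift g y ≫ c, ?_⟩
    rw [Category.assoc, hc]
    simp [MonObj.comp_mul, GrpObj.comp_inv]
  have hins : Red.HasNoSubtorus k I := hasNoSubtorus_image huns q (hIsol (isSolvableGrp_of_noSubtorus U huns))
  obtain ⟨r, hr⟩ := exists_factor_unipotentRadical hU' i hin hIc hins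
  have hf : (q ≫ r) ≫ u' = u ≫ π := by rw [Category.assoc, hr, hqi]
  refine ⟨q ≫ r, hf, ?_⟩
  haveI : IsClosedImmersion (r.left ≫ u'.left) := by rw [← Over.comp_left, hr]; infer_instance
  haveI : IsClosedImmersion r.left := IsClosedImmersion.of_comp r.left u'.left
  suffices hsur : ∀ y : U1 ⟶ U', ∃ x : U1 ⟶ U, x ≫ q ≫ r = y by
    haveI : JacobsonSpace U'.left := LocallyOfFiniteType.jacobsonSpace U'.hom
    have hrange : Set.range r.left = Set.univ := by
      by_contra hne
      obtain ⟨y, hy⟩ := exists_pt_mem (X := U') (O := (Set.range r.left)ᶜ)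
        (r.left.isClosedEmbedding.isClosed_range.isOpen_compl.isLocallyClosed)
        (Set.nonempty_compl.2 hne)
      obtain ⟨x, rfl⟩ := hsur y
      exact hy ⟨ptOf (x ≫ q), rfl⟩
    haveI : Surjective r.left := ⟨Set.range_eq_univ.1 hrange⟩
    exact inferInstanceAs (Surjective (q.left ≫ r.left))
  -- the identity component of the reduced preimage
  have hpb : IsPullback (pullback.fst π u') (pullback.snd π u') π u' := IsPullback.of_hasPullback π u'
  obtain ⟨gP, hP⟩ := exists_grpObj_pullback hpb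
  letI := gP
  haveI := hP
  haveI : IsMonHom (pullback.snd π u') :=
    isMonHom_of_comp_mono (pullback.snd π u') u' (pullback.fst π u' ≫ π) hpb.w.symm
  haveI : IsClosedImmersion (pullback.fst π u').left :=
    MorphismProperty.of_isPullback (P := @IsClosedImmersion) (hpb.map (Over.forget _)).flip huc'
  haveI : LocallyOfFiniteType (pullback π u').hom := by rw [← Over.w (pullback.fst π u')]; infer_instance
  haveI : IsAffine (pullback π u').left := isAffine_of_isAffineHom (pullback.fst π u').left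
  obtain ⟨R, gR, jR, hjR, hjRc, hRs, hjRs, hRfac⟩ := exists_red_subgroup (pullback π u')
  haveI := hjR; haveI := hjRc; haveI := hRs
  haveI : IsAffine R.left := isAffine_of_isAffineHom jR.left
  haveI : QuasiCompact R.hom := quasiCompact_of_compactSpace _
  haveI : LocallyOfFiniteType R.hom := inferInstance
  haveI := hjRs
  haveI : Surjective (pullback.snd π u').left :=
    MorphismProperty.of_isPullback (P := @Surjective) (hpb.map (Over.forget _)) ‹Surjective π.left›
  haveI : Surjective (jR ≫ pullback.snd π u').left :=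
    inferInstanceAs (Surjective (jR.left ≫ (pullback.snd π u').left))
  obtain ⟨H, gH, jH, hjH⟩ := Groth.L08.Chev.exists_idComp R
  haveI := hjH.hom; haveI := hjH.closedImm; haveI := hjH.smooth; haveI := hjH.connectedSpace
  haveI := hjH.isAffine
  haveI : QuasiCompact H.hom := quasiCompact_of_compactSpace _
  have hid : Groth.L08.Chev.IdCompData (𝟙 U') := by
    refine ⟨inferInstance, ?_, ?_, ?_⟩
    · show IsClosedImmersion (𝟙 U'.left); infer_instance
    · show IsOpenImmersion (𝟙 U'.left); infer_instance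
    · rw [PreconnectedSpace.connectedComponent_eq_univ]; exact Set.range_eq_univ.2 fun x => ⟨x, rfl⟩
  obtain ⟨ρ, hρm, hρs, hρ⟩ := exists_surjective_idComp hjH hid (jR ≫ pullback.snd π u')
  haveI := hρm; haveI := hρs
  rw [Category.comp_id] at hρ
  let h : H ⟶ G := jH ≫ jR ≫ pullback.fst π u'
  haveI : IsClosedImmersion h.left :=
    inferInstanceAs (IsClosedImmersion (jH.left ≫ jR.left ≫ (pullback.fst π u').left))
  haveI : Mono h := Over.mono_of_mono_left h
  haveI : IsReduced H.left := Groth.Agent.AV.isReduced_of_smooth_field H.hom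
  have hhπ : h ≫ π = ρ ≫ u' := by
    simp only [h, Category.assoc, hpb.w, hρ]
  have hconj : ∀ g : U1 ⟶ G, ∃ e : H ⟶ H, e ≫ h = AGF.conjBy g h := by
    intro g
    haveI := isMonHom_conjBy g h
    obtain ⟨m, hm⟩ := hun' H (toUnit H ≫ g ≫ π) ρ
    obtain ⟨e₁, he₁, -⟩ := hpb.exists_lift (AGF.conjBy g h) m (by
      rw [← hm, conjBy_comp, hhπ])
    obtain ⟨e₂, he₂⟩ := hRfac H e₁ inferInstance
    haveI : IsMonHom e₁ := isMonHom_of_comp_mono e₁ (pullback.fst π u') _ he₁
    haveI : Mono jR := Over.mono_of_mono_left jR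
    haveI : IsMonHom e₂ := isMonHom_of_comp_mono e₂ jR _ he₂
    obtain ⟨e, he⟩ := hjH.exists_lift_hom e₂
    exact ⟨e, by simp only [h, reassoc_of% he, reassoc_of% he₂, he₁]⟩
  -- maximal tori and Cartan subgroup
  obtain ⟨TH, gTH, iTH, hTH⟩ := exists_maxTorus_gen H
  haveI := hTH.1; haveI := hTH.2.1
  obtain ⟨T', gT', iT', hT'⟩ := exists_maxTorus_gen U'
  haveI := hT'.1; haveI := hT'.2.1
  have hT'1 : iT' = 1 := by
    rw [← Category.id_comp iT', id_eq_one_of_isTrivialGrp (huns' T' iT' hT'.2.2.1), MonObj.one_comp]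
  have hTHρ : iTH ≫ ρ = 1 := hom_from_torus_eq_one hTH.2.2.1 huns' (iTH ≫ ρ)
  haveI : Surjective (1 : TH ⟶ T').left := by
    refine ⟨fun z => ?_⟩
    haveI : IsIso T'.hom := huns' T' iT' hT'.2.2.1
    exact ⟨ptOf (1 : U1 ⟶ TH), T'.hom.homeomorph.injective (Subsingleton.elim (α := PrimeSpectrum k) _ _)⟩
  obtain ⟨C, gC, c, hc⟩ := exists_centralizer_torus iTH hTH.2.2.1
  obtain ⟨hcc, hCa, hCs, hCc, -, -⟩ := centralizer_props hTH.2.2.1 hc
  haveI := hcc; haveI := hCa; haveI := hCs; haveI := hCc; haveI := hc.1; haveI := hc.2.1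
  have hc' : Red.IsCentralizerOf iT' (𝟙 U') := ⟨inferInstance, inferInstance, fun X g =>
    ⟨fun _ X' x z => by rw [hT'1, MonObj.comp_one, _root_.one_mul, _root_.mul_one], fun _ => ⟨g, Category.comp_id g⟩⟩⟩
  haveI := surjective_centralizers ρ hTH hT' 1 (by rw [MonObj.one_comp, hTHρ]) hc hc' (c ≫ ρ)
    (Category.comp_id _)
  -- the unipotent part of the Cartan subgroup
  obtain ⟨T₂, gT₂, iT₂, p, V, gV, v, hm₂, hmono₂, hT₂, hp₂, hip₂, hV, hvp, hker⟩ :=
    exists_retraction_radical C (isSolvableGrp_centralizer hTH hc)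
  haveI := hm₂; haveI := hp₂; haveI := hmono₂
  obtain ⟨hvm, hvc, -, hVs, hVc, hVns⟩ := unipotentRadical_data hV
  haveI := hvm; haveI := hvc; haveI := hVs; haveI := hVc
  haveI : IsReduced V.left := Groth.Agent.AV.isReduced_of_smooth_field V.hom
  haveI : IsAffine V.left := isAffine_of_isAffineHom v.left
  -- its normality in the centralizer of the torus
  haveI := hjH.hom
  haveI : IsMonHom (iTH ≫ h) := inferInstance
  haveI : Mono (iTH ≫ h) := mono_comp _ _
  obtain ⟨D, gD, d, hd⟩ := exists_centralizer_torus (iTH ≫ h) hTH.2.2.1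
  obtain ⟨hdc, hDa, hDs, hDc, -, hdcen⟩ := centralizer_props hTH.2.2.1 hd
  haveI := hdc; haveI := hDa; haveI := hDs; haveI := hDc; haveI := hd.1; haveI := hd.2.1
  obtain ⟨jD, hι⟩ := (hd.2.2 C (c ≫ h)).2 fun X x t => by
    have := congrArg (· ≫ h) ((hc.2.2 C c).1 ⟨𝟙 C, Category.id_comp c⟩ X x t)
    simpa only [MonObj.mul_comp, Category.assoc] using this
  haveI : IsMonHom jD := isMonHom_of_comp_mono jD d _ hι
  haveI : IsClosedImmersion (jD.left ≫ d.left) := by
    rw [← Over.comp_left, hι]; exact inferInstanceAs (IsClosedImmersion (c.left ≫ h.left))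
  haveI : IsClosedImmersion jD.left := IsClosedImmersion.of_comp jD.left d.left
  haveI : Mono jD := Over.mono_of_mono_left jD
  haveI : IsClosedImmersion (v ≫ jD).left := inferInstanceAs (IsClosedImmersion (v.left ≫ jD.left))
  have hVconj : ∀ z : U1 ⟶ D, ∃ e : V ⟶ V, e ≫ v ≫ jD = AGF.conjBy z (v ≫ jD) := by
    intro z
    obtain ⟨e₀, he₀⟩ := hconj (z ≫ d)
    obtain ⟨e₁, he₁⟩ := (hc.2.2 V (v ≫ c ≫ e₀)).2 fun X x t => by
      rw [← cancel_mono h, MonObj.mul_comp, MonObj.mul_comp]
      simp only [Category.assoc, he₀]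
      rw [comp_conjBy, comp_conjBy, comp_conjBy, ← hι]
      have h1 : Commute (toUnit X ≫ z ≫ d) (t ≫ iTH ≫ h) := by
        have h1' := hdcen X (toUnit X ≫ z) t
        simp only [Category.assoc] at h1'
        exact h1'
      have h2 : Commute (x ≫ v ≫ jD ≫ d) (t ≫ iTH ≫ h) := by
        have h2' := hdcen X (x ≫ v ≫ jD) t
        simp only [Category.assoc] at h2'
        exact h2'
      simp only [AGF.conjBy]
      exact ((h1.mul_left h2).mul_left h1.inv_left).eq
    haveI := isMonHom_conjBy z (v ≫ jD)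
    have he : e₁ ≫ jD = AGF.conjBy z (v ≫ jD) := by
      rw [← cancel_mono d, conjBy_comp, Category.assoc, Category.assoc, hι, reassoc_of% he₁, he₀, comp_conjBy,
        comp_conjBy]
    haveI : IsMonHom e₁ := isMonHom_of_comp_mono e₁ jD _ he
    obtain ⟨e, he'⟩ := hker V e₁ (hom_torus_eq_one (isSolvableGrp_of_noSubtorus V hVns) hVns hT₂ (e₁ ≫ p))
    exact ⟨e, by rw [reassoc_of% he', he]⟩
  have hVn : AlgGrp.IsNormalHom (v ≫ jD) := by
    intro Y g y
    let Z := D ⊗ V
    haveI : Smooth Z.hom := inferInstanceAs (Smooth (pullback.fst D.hom V.hom ≫ D.hom))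
    haveI : IsReduced Z.left := Groth.Agent.AV.isReduced_of_smooth_field Z.hom
    obtain ⟨e, he⟩ := exists_lift_of_points (v ≫ jD) (fst D V * (snd D V ≫ v ≫ jD) * (fst D V)⁻¹) fun z => by
      obtain ⟨e, he⟩ := hVconj (z ≫ fst D V)
      refine ⟨(z ≫ snd D V) ≫ e, ?_⟩
      rw [Category.assoc, he, pt_conjBy]
      simp [MonObj.comp_mul, GrpObj.comp_inv]
    refine ⟨lift g y ≫ e, ?_⟩
    rw [Category.assoc, he]
    simp [MonObj.comp_mul, GrpObj.comp_inv]
  obtain ⟨T, gT, iT, hT, f₀, hf₀⟩ := exists_maxTorus_ge (iTH ≫ h) hTH.2.2.1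
  haveI : IsClosedImmersion ((v ≫ jD) ≫ d).left :=
    inferInstanceAs (IsClosedImmersion ((v ≫ jD).left ≫ d.left))
  obtain ⟨N, gN, n, hn, hnc, hNs, hNc, hnn, hNns, e, he⟩ := exists_normal hT ((v ≫ jD) ≫ d) hVns
    fun B _ iB t hB ht => normal_centralizer_le_borel hTH.2.2.1 hd (v ≫ jD) hVn hVns f₀ hf₀ hB t ht
  haveI := hn; haveI := hnc; haveI := hNs; haveI := hNc
  haveI : IsAffine N.left := isAffine_of_isAffineHom n.left
  haveI : QuasiCompact N.hom := quasiCompact_of_compactSpace _
  obtain ⟨e', he'⟩ := exists_factor_unipotentRadical hU n hnn hNc hNns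
  -- lifting points
  intro y
  haveI : LocallyOfFiniteType C.hom := inferInstance
  obtain ⟨x, hx⟩ := exists_pt_lift (c ≫ ρ) y ((c ≫ ρ).left.surjective _)
  obtain ⟨x', hx'⟩ := hker U1 (x * (x ≫ p ≫ iT₂)⁻¹) (by
    rw [MonObj.mul_comp, GrpObj.inv_comp, Category.assoc, Category.assoc, hip₂, Category.comp_id, mul_inv_cancel])
  refine ⟨x' ≫ e ≫ e', ?_⟩
  rw [← cancel_mono u']
  have h0 : iT₂ ≫ c ≫ ρ = 1 := hom_from_torus_eq_one hT₂ huns' (iT₂ ≫ c ≫ ρ)
  have h1 : (x' ≫ v) ≫ c ≫ ρ = y := by
    rw [hx', MonObj.mul_comp, GrpObj.inv_comp, hx]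
    simp only [Category.assoc, h0, MonObj.comp_one, inv_one, _root_.mul_one]
  calc (x' ≫ e ≫ e') ≫ q ≫ r ≫ u' = x' ≫ e ≫ e' ≫ u ≫ π := by simp only [Category.assoc, hr, hqi]
    _ = x' ≫ e ≫ n ≫ π := by rw [reassoc_of% he']
    _ = x' ≫ v ≫ jD ≫ d ≫ π := by rw [← Category.assoc e, he]; simp only [Category.assoc]
    _ = x' ≫ v ≫ c ≫ ρ ≫ u' := by rw [reassoc_of% hι, hhπ]
    _ = y ≫ u' := by rw [← h1]; simp only [Category.assoc]

end Groth.L14.Luna
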