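import Groth.Agent.L14.Luna.UnipRad
import Groth.Agent.L08.Borel.CentralTorus

/-!
# Chevalley's theorem on the intersection of the Borel subgroups containing a maximal torus
-/

set_option autoImplicit false
set_option backward.isDefEq.respectTransparency.types false
set_option linter.style.haveILetI false
set_option linter.unusedSectionVars false
set_option maxHeartbeats 1000000

universe u

open CategoryTheory CategoryTheory.Limits MonoidalCategory CartesianMonoidalCategory MonObj GrpObj AlgebraicGeometry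
open Groth.L08.Borel

noncomputable section

namespace Groth.L14.Luna

variable {k : Type u} [Field k] [IsAlgClosed k]

local notation "U1" => 𝟙_ (Over (Spec (CommRingCat.of k)))

/-- A connected affine group without subtori is solvable. -/
theorem isSolvableGrp_of_noSubtorus (H : Over (Spec (CommRingCat.of k))) [GrpObj H] [IsAffine H.left]
    [Smooth H.hom] [ConnectedSpace H.left] (hH : Red.HasNoSubtorus k H) : Red.IsSolvableGrp H := by
  refine isSolvableGrp_of_central_tori fun S _ j _ _ hS s h => ?_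
  have e : s = 1 := by
    rw [← Category.comp_id s, id_eq_one_of_isTrivialGrp (hH S j hS), MonObj.comp_one]
  rw [e, MonObj.one_comp, _root_.one_mul, _root_.mul_one]

/-- A subgroup of a group without subtori has no subtori. -/
theorem hasNoSubtorus_of_mono {H U : Over (Spec (CommRingCat.of k))} [GrpObj H] [GrpObj U] (f : H ⟶ U)
    [IsMonHom f] [Mono f] (hU : Red.HasNoSubtorus k U) : Red.HasNoSubtorus k H :=
  fun T _ j _ _ hT => hU T (j ≫ f) hT

/-- A normal smooth connected subgroup without subtori lies in every Borel subgroup. -/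
theorem normal_le_borel {G N B : Over (Spec (CommRingCat.of k))} [GrpObj G] [GrpObj N] [GrpObj B]
    [IsAffine G.left] [Smooth G.hom] [ConnectedSpace G.left] (n : N ⟶ G) [IsMonHom n] [IsClosedImmersion n.left]
    (hn : AlgGrp.IsNormalHom n) [Smooth N.hom] [ConnectedSpace N.left] (hns : Red.HasNoSubtorus k N)
    {iB : B ⟶ G} (hB : Red.IsBorelOver k iB) : ∃ f : N ⟶ B, f ≫ iB = n := by
  haveI := hB.1; haveI := hB.2.1
  haveI : IsAffine N.left := isAffine_of_isAffineHom n.left
  haveI : LocallyOfFiniteType G.hom := inferInstance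
  haveI : LocallyOfFiniteType N.hom := inferInstance
  haveI : IsReduced N.left := Groth.Agent.AV.isReduced_of_smooth_field N.hom
  obtain ⟨X, a, o, hX⟩ := exists_isQuotient iB
  haveI := isProper_quotient_of_borel hB hX
  obtain ⟨g, φ, hφ⟩ := exists_conj_factor n (isSolvableGrp_of_noSubtorus N hns) hX
  refine exists_lift_of_points iB n fun x => ?_
  obtain ⟨x', hx'⟩ := hn U1 g⁻¹ x
  refine ⟨x' ≫ φ, ?_⟩
  rw [Category.assoc, hφ, pt_conjBy, ← hx', _root_.inv_inv]
  group

/-- The unipotent radical lies in the unipotent radical of every Borel subgroup. -/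
theorem radical_le_borelRadical {G U B V : Over (Spec (CommRingCat.of k))} [GrpObj G] [GrpObj U] [GrpObj B] [GrpObj V]
    [IsAffine G.left] [Smooth G.hom] [ConnectedSpace G.left] {u : U ⟶ G} (hU : Par.IsUnipotentRadical u)
    {iB : B ⟶ G} (hB : Red.IsBorelOver k iB) {v : V ⟶ B} (hV : Par.IsUnipotentRadical v) :
    ∃ f : U ⟶ V, f ≫ v ≫ iB = u := by
  obtain ⟨hum, huc, hun, hus, hucon, huns⟩ := unipotentRadical_data hU
  haveI := hum; haveI := huc; haveI := hus; haveI := hucon
  haveI := hB.1; haveI := hB.2.1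
  haveI : Mono iB := Over.mono_of_mono_left iB
  haveI : IsAffine B.left := isAffine_of_isAffineHom iB.left
  haveI : QuasiCompact U.hom := hU.2.2.2.2.1
  obtain ⟨b, hb⟩ := normal_le_borel u hun huns hB
  haveI : IsMonHom b := isMonHom_of_comp_mono b iB u hb
  haveI : IsClosedImmersion (b.left ≫ iB.left) := by rw [← Over.comp_left, hb]; infer_instance
  haveI : IsClosedImmersion b.left := IsClosedImmersion.of_comp b.left iB.left
  have hbn : AlgGrp.IsNormalHom b := fun Y g y => by
    obtain ⟨y', hy'⟩ := hun Y (g ≫ iB) y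
    refine ⟨y', ?_⟩
    rw [← cancel_mono iB, MonObj.mul_comp, MonObj.mul_comp, GrpObj.inv_comp, Category.assoc, hb, hy',
      Category.assoc, hb]
  obtain ⟨f, hf⟩ := exists_factor_unipotentRadical hV b hbn hucon huns
  exact ⟨f, by rw [← Category.assoc, hf, hb]⟩

/-- **Chevalley**: a smooth connected subgroup contained in the unipotent radicals of all Borel subgroups
containing a maximal torus is contained in the unipotent radical. -/
theorem le_radical {G T H U : Over (Spec (CommRingCat.of k))} [GrpObj G] [GrpObj T] [GrpObj H] [GrpObj U]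
    [IsAffine G.left] [Smooth G.hom] [ConnectedSpace G.left] {u : U ⟶ G} (hU : Par.IsUnipotentRadical u)
    {iT : T ⟶ G} (hT : AGF.IsMaxTorus iT) (j : H ⟶ G) [IsMonHom j] [IsClosedImmersion j.left]
    [Smooth H.hom] [ConnectedSpace H.left]
    (hH : ∀ (B : Over (Spec (CommRingCat.of k))) [GrpObj B] (iB : B ⟶ G) (t : T ⟶ B),
      Red.IsBorelOver k iB → t ≫ iB = iT → ∀ (V : Over (Spec (CommRingCat.of k))) [GrpObj V] (v : V ⟶ B),
        Par.IsUnipotentRadical v → ∃ f : H ⟶ V, f ≫ v ≫ iB = j) :
    ∃ g : H ⟶ U, g ≫ u = j := by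
  haveI := hT.1; haveI := hT.2.1
  have key : ∀ (B : Over (Spec (CommRingCat.of k))) [GrpObj B] (iB : B ⟶ G) (t : T ⟶ B),
      Red.IsBorelOver k iB → t ≫ iB = iT →
      ∃ (V : Over (Spec (CommRingCat.of k))) (_ : GrpObj V) (v : V ⟶ B) (f : H ⟶ V),
        Par.IsUnipotentRadical v ∧ f ≫ v ≫ iB = j := by
    intro B _ iB t hB ht
    haveI := hB.2.1; haveI := hB.2.2.1; haveI := hB.2.2.2.1
    haveI : IsAffine B.left := isAffine_of_isAffineHom iB.left
    obtain ⟨V, gV, v, hV⟩ := exists_unipotentRadical_solvable B hB.2.2.2.2.1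
    obtain ⟨f, hf⟩ := hH B iB t hB ht V v hV
    exact ⟨V, gV, v, f, hV, hf⟩
  have hns : Red.HasNoSubtorus k H := by
    obtain ⟨B, B', _, _, iB, iB', t, t', O, hB, -, ht, -⟩ := exists_general_position hT
    obtain ⟨V, gV, v, f, hV, hf⟩ := key B iB t hB ht
    obtain ⟨hvm, hvc, -, -, -, hvns⟩ := unipotentRadical_data hV
    haveI := hvm; haveI := hvc; haveI := hB.1; haveI := hB.2.1
    haveI : Mono v := Over.mono_of_mono_left v
    haveI : Mono iB := Over.mono_of_mono_left iB
    haveI : IsMonHom f := isMonHom_of_comp_mono f (v ≫ iB) j hf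
    haveI : Mono f := by
      haveI : Mono (f ≫ v ≫ iB) := hf ▸ Over.mono_of_mono_left j
      exact mono_of_mono f (v ≫ iB)
    exact hasNoSubtorus_of_mono f hvns
  obtain ⟨N, gN, n, hn, hnc, hNs, hNc, hnorm, hNns, f, hf⟩ := exists_normal hT j hns fun B _ iB t hB ht => by
    obtain ⟨V, gV, v, f, -, hf⟩ := key B iB t hB ht
    exact ⟨f ≫ v, by rw [Category.assoc, hf]⟩
  haveI := hn; haveI := hnc; haveI := hNs; haveI := hNc
  haveI : IsAffine N.left := isAffine_of_isAffineHom n.left
  haveI : QuasiCompact N.hom := quasiCompact_of_compactSpace _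
  obtain ⟨g, hg⟩ := exists_factor_unipotentRadical hU n hnorm hNc hNns
  exact ⟨f ≫ g, by rw [Category.assoc, hg, hf]⟩

/-- In a reductive group a smooth connected subgroup without subtori lying in all Borel subgroups containing a
maximal torus is trivial. -/
theorem eq_one_of_borels {G T H : Over (Spec (CommRingCat.of k))} [GrpObj G] [GrpObj T] [GrpObj H]
    (hG : Red.IsReductiveOver k G) {iT : T ⟶ G} (hT : AGF.IsMaxTorus iT) (j : H ⟶ G) [IsMonHom j]
    [IsClosedImmersion j.left] [Smooth H.hom] [ConnectedSpace H.left] (hHns : Red.HasNoSubtorus k H)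
    (hH : ∀ (B : Over (Spec (CommRingCat.of k))) [GrpObj B] (iB : B ⟶ G) (t : T ⟶ B),
      Red.IsBorelOver k iB → t ≫ iB = iT → ∃ f : H ⟶ B, f ≫ iB = j) : j = 1 := by
  haveI := hG.1; haveI := hG.2.1; haveI := hG.2.2.1
  obtain ⟨N, gN, n, hn, hnc, hNs, hNc, hnorm, hNns, f, hf⟩ := exists_normal hT j hHns hH
  haveI := hn
  rw [← hf, ← Category.comp_id f, id_eq_one_of_isTrivialGrp (hG.2.2.2 N n hnc hNs hNc hnorm hNns),
    MonObj.comp_one, MonObj.one_comp]

end Groth.L14.Luna
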