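import Groth.Agent.L08.Borel.Fixed
import Groth.Agent.L08.Borel.Proper
import Groth.Agent.L08.Borel.Borels

/-!
# Orbits of points fixed by Borel subgroups, and fixed points in stable closed sets
-/

set_option autoImplicit false
set_option backward.isDefEq.respectTransparency.types false
set_option linter.style.haveILetI false
set_option linter.unusedSectionVars false

universe u

open CategoryTheory CategoryTheory.Limits MonoidalCategory CartesianMonoidalCategory MonObj GrpObj AlgebraicGeometry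
open Groth.L08.Borel

noncomputable section

namespace Groth.L14.Luna

variable {k : Type u} [Field k] [IsAlgClosed k]

local notation "U1" => 𝟙_ (Over (Spec (CommRingCat.of k)))

variable {G X : Over (Spec (CommRingCat.of k))} [GrpObj G]

/-- A stable closed set contains a closed orbit. -/
theorem exists_closed_orbit_in [LocallyOfFiniteType G.hom] [QuasiCompact G.hom] [LocallyOfFiniteType X.hom]
    [QuasiCompact X.hom] (a : AlgGrp.Action G X) {Z : Set X.left} (hZ : IsClosed Z) (hne : Z.Nonempty)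
    (hst : ∀ x : U1 ⟶ X, ptOf x ∈ Z → Set.range (a.orbitMap x).left ⊆ Z) :
    ∃ x : U1 ⟶ X, ptOf x ∈ Z ∧ IsClosed (Set.range (a.orbitMap x).left) := by
  classical
  obtain ⟨N, hN⟩ := Groth.L19.AlgGrpBasic.exists_dim_bound X.hom
  obtain ⟨x₀, hx₀⟩ := exists_pt_mem (X := X) hZ.isLocallyClosed hne
  have hbound : ∀ x : U1 ⟶ X, topologicalKrullDim ↥(Set.range (a.orbitMap x).left) ≤ (N : WithBot ℕ∞) := fun x =>
    (Topology.IsEmbedding.subtypeVal.isInducing.topologicalKrullDim_le).trans hN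
  have hex : ∃ m : ℕ, ∃ x : U1 ⟶ X, ptOf x ∈ Z ∧
      topologicalKrullDim ↥(Set.range (a.orbitMap x).left) ≤ (m : WithBot ℕ∞) :=
    ⟨N, x₀, hx₀, hbound x₀⟩
  obtain ⟨x, hxZ, hx⟩ := Nat.find_spec hex
  refine ⟨x, hxZ, ?_⟩
  by_contra hnc
  have hne : (closure (Set.range (a.orbitMap x).left) \ Set.range (a.orbitMap x).left).Nonempty := by
    refine Set.nonempty_iff_ne_empty.2 fun h => hnc ?_
    rw [Set.sdiff_eq_empty] at h
    exact closure_subset_iff_isClosed.1 h
  obtain ⟨y, hy⟩ := exists_pt_mem (X := X) (Groth.L19.AlgGrpBasic.isClosed_boundary a x).isLocallyClosed hne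
  have hyZ : ptOf y ∈ Z := closure_minimal (hst x hxZ) hZ hy.1
  have h1 : topologicalKrullDim ↥(Set.range (a.orbitMap y).left) < topologicalKrullDim ↥(Set.range (a.orbitMap x).left) :=
    lt_of_le_of_lt (Groth.L03.Euler.topologicalKrullDim_set_mono (Groth.L19.AlgGrpBasic.orbit_subset_boundary a x y hy))
      (Groth.L19.AlgGrpBasic.dim_boundary_lt a x)
  have h2 := lt_of_lt_of_le h1 hx
  rcases Nat.eq_zero_or_pos (Nat.find hex) with h0 | hpos
  · rw [h0] at h2
    let q : ↥(Set.range (a.orbitMap y).left) :=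
      ⟨(a.orbitMap y).left ((η[G] : U1 ⟶ G).left (IsLocalRing.closedPoint k)), ⟨_, rfl⟩⟩
    haveI : Nonempty (TopologicalSpace.IrreducibleCloseds ↥(Set.range (a.orbitMap y).left)) :=
      ⟨⟨closure {q}, isIrreducible_singleton.closure, isClosed_closure⟩⟩
    exact absurd h2 (not_lt.2 (by simpa [topologicalKrullDim] using Order.krullDim_nonneg))
  · obtain ⟨m, hm⟩ := Nat.exists_eq_succ_of_ne_zero hpos.ne'
    rw [hm] at h2
    exact Nat.find_min hex (by omega) ⟨y, hyZ, withBot_le_of_lt_succ h2⟩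

/-- A connected solvable group fixes a point of every nonempty stable closed subset of a proper scheme. -/
theorem exists_fixedPt_in [IsAffine G.left] [Smooth G.hom] [ConnectedSpace G.left] [Group.IsSolvable (U1 ⟶ G)]
    [IsProper X.hom] (a : AlgGrp.Action G X) {Z : Set X.left} (hZ : IsClosed Z) (hne : Z.Nonempty)
    (hst : ∀ (x : U1 ⟶ X) (g : U1 ⟶ G), ptOf x ∈ Z → ptOf (lift g x ≫ a.act) ∈ Z) :
    ∃ x : U1 ⟶ X, ptOf x ∈ Z ∧ a.IsFixedPt x := by
  haveI : LocallyOfFiniteType G.hom := inferInstance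
  haveI : QuasiCompact G.hom := quasiCompact_of_compactSpace _
  haveI : JacobsonSpace G.left := LocallyOfFiniteType.jacobsonSpace G.hom
  obtain ⟨x, hx, hcl⟩ := exists_closed_orbit_in a hZ hne fun x hx => by
    rintro _ ⟨p, rfl⟩
    by_contra hp
    obtain ⟨g, hg⟩ := exists_pt_mem (X := G) (O := (a.orbitMap x).left ⁻¹' Zᶜ)
      ((hZ.isOpen_compl.preimage (a.orbitMap x).left.continuous).isLocallyClosed) ⟨p, hp⟩
    refine hg ?_
    have h := hst x g hx
    have e : g ≫ a.orbitMap x = lift g x ≫ a.act := by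
      rw [comp_orbitMap, toUnit_unique (toUnit U1) (𝟙 _), Category.id_comp]
    rw [← e] at h
    exact h
  exact ⟨x, hx, isFixedPt_of_isClosed a x hcl⟩

/-- The orbit of a point fixed by a Borel subgroup is closed. -/
theorem isClosed_orbit_of_borel [IsAffine G.left] [Smooth G.hom] [ConnectedSpace G.left] [IsSeparated X.hom]
    [LocallyOfFiniteType X.hom] (a : AlgGrp.Action G X) (x : U1 ⟶ X)
    {B : Over (Spec (CommRingCat.of k))} [GrpObj B] {iB : B ⟶ G} (hB : Red.IsBorelOver k iB)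
    (hfix : ∀ b : U1 ⟶ B, lift (b ≫ iB) x ≫ a.act = x) : IsClosed (Set.range (a.orbitMap x).left) := by
  obtain ⟨hm, hc, hs, hcon, hsol, hmax⟩ := hB
  haveI := hm; haveI := hc; haveI := hs; haveI := hcon
  haveI : LocallyOfFiniteType G.hom := inferInstance
  haveI : IsAffine B.left := isAffine_of_isAffineHom iB.left
  obtain ⟨B₀, g₀, i₀, hm₀, hc₀, hs₀, hcon₀, hsol₀, X₀, a₀, o₀, hX₀, hp₀⟩ := exists_solvable_proper G
  haveI := hm₀; haveI := hc₀; haveI := hs₀; haveI := hcon₀; haveI := hp₀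
  obtain ⟨g, f, hf⟩ := exists_conj_factor iB hsol hX₀
  haveI : IsMonHom (AGF.conjBy g⁻¹ i₀) := isMonHom_conjBy g⁻¹ i₀
  haveI : Mono i₀ := Over.mono_of_mono_left i₀
  haveI : Mono (AGF.conjBy g⁻¹ i₀) := mono_conjBy g⁻¹ i₀
  haveI : LocallyOfFiniteType B₀.hom := by rw [← Over.w i₀]; infer_instance
  haveI : IsAffine B₀.left := isAffine_of_isAffineHom i₀.left
  haveI : IsAffineHom (AGF.conjBy g⁻¹ i₀).left := isAffineHom_of_isAffine _
  haveI : IsClosedImmersion (AGF.conjBy g⁻¹ i₀).left := Groth.L08.MonoClosed.isClosedImmersion_of_field _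
  have hf' : f ≫ AGF.conjBy g⁻¹ i₀ = iB := by
    rw [comp_conjBy, hf, conjBy_conjBy, inv_mul_cancel, conjBy_one]
  haveI : IsIso f := hmax B₀ (AGF.conjBy g⁻¹ i₀) f ‹_› hs₀ hcon₀ hsol₀ hf'
  let x₀ : U1 ⟶ X := lift g x ≫ a.act
  have hfix₀ : ∀ b : U1 ⟶ B₀, lift (b ≫ i₀) x₀ ≫ a.act = x₀ := by
    intro b
    have e : (b ≫ inv f) ≫ iB = g⁻¹ * (b ≫ i₀) * g := by
      rw [← hf', Category.assoc, IsIso.inv_hom_id_assoc, comp_conjBy]
      simp [AGF.conjBy, toUnit_unique (toUnit U1) (𝟙 _)]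
    have h := hfix (b ≫ inv f)
    rw [e] at h
    show lift (b ≫ i₀) (lift g x ≫ a.act) ≫ a.act = lift g x ≫ a.act
    conv_lhs => rw [← Groth.L25.Actions.mul_act, show (b ≫ i₀) * g = g * (g⁻¹ * (b ≫ i₀) * g) by group,
      Groth.L25.Actions.mul_act, h]
  have htr : ∀ {T : Over (Spec (CommRingCat.of k))} (y : T ⟶ G),
      y ≫ a.orbitMap x₀ = (y * (toUnit T ≫ g)) ≫ a.orbitMap x := by
    intro T y
    rw [comp_orbitMap, comp_orbitMap, Groth.L25.Actions.mul_act]
    simp only [x₀, ← Category.assoc, comp_lift]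
  have hsame : Set.range (a.orbitMap x₀).left = Set.range (a.orbitMap x).left := by
    let r : G ⟶ G := 𝟙 G * (toUnit G ≫ g)
    let r' : G ⟶ G := 𝟙 G * (toUnit G ≫ g⁻¹)
    have hr : a.orbitMap x₀ = r ≫ a.orbitMap x := by simpa using htr (𝟙 G)
    have hsurj : Function.Surjective r.left := by
      have e : r' ≫ r = 𝟙 G := by
        simp only [r, r', MonObj.comp_mul, Category.comp_id, ← Category.assoc, toUnit_unique (_ ≫ toUnit G) (toUnit G)]
        rw [_root_.mul_assoc, ← MonObj.comp_mul, inv_mul_cancel, MonObj.comp_one, _root_.mul_one]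
      intro p
      refine ⟨r'.left p, ?_⟩
      rw [← Scheme.Hom.comp_apply, ← Over.comp_left, e]
      rfl
    rw [hr, Over.comp_left]
    exact hsurj.range_comp (a.orbitMap x).left
  rw [← hsame]
  -- descend to the proper quotient
  haveI : Smooth (G ⊗ B₀).hom := by
    have : (G ⊗ B₀).hom = (fst G B₀).left ≫ G.hom := (Over.w _).symm
    rw [this]
    haveI : Smooth (fst G B₀).left := by
      rw [Over.fst_left]; exact MorphismProperty.pullback_fst _ _ ‹Smooth B₀.hom›
    infer_instance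
  haveI : IsReduced (G ⊗ B₀).left := Groth.Agent.AV.isReduced_of_smooth_field (G ⊗ B₀).hom
  haveI : LocallyOfFiniteType (G ⊗ B₀).hom := inferInstance
  have key : (fst G B₀ * (snd G B₀ ≫ i₀)) ≫ a.orbitMap x₀ = fst G B₀ ≫ a.orbitMap x₀ := by
    refine hom_ext_pts _ _ fun t => ?_
    rw [← Category.assoc, ← Category.assoc, MonObj.comp_mul, comp_orbitMap, comp_orbitMap,
      Groth.L25.Actions.mul_act, toUnit_unique (toUnit U1) (𝟙 _), Category.id_comp, ← Category.assoc t,
      hfix₀]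
  obtain ⟨j, hj⟩ := exists_desc hX₀ (a.orbitMap x₀) fun T y z ⟨w, hw⟩ => by
    have h := congrArg (lift y w ≫ ·) key
    simp only [← Category.assoc, MonObj.comp_mul, lift_fst, lift_snd] at h
    rw [hw, mul_inv_cancel_left] at h
    exact h.symm
  haveI : IsProper (j.left ≫ X.hom) := by rw [Over.w]; infer_instance
  haveI : IsProper j.left := IsProper.of_comp j.left X.hom
  haveI := hX₀.2.2.1
  rw [← hj, Over.comp_left, Scheme.Hom.comp_base, TopCat.coe_comp,
    (a₀.orbitMap o₀).left.surjective.range_comp]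
  exact j.left.isClosedMap.isClosed_range

end Groth.L14.Luna
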