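import Groth.Agent.L14.Luna.Radical
import Groth.Agent.L08.Borel.IsoBase
import Groth.Prelude.Def_Par

/-!
# Unipotent radicals over an algebraically closed field
-/

set_option autoImplicit false
set_option backward.isDefEq.respectTransparency.types false
set_option linter.style.haveILetI false
set_option linter.unusedSectionVars false
set_option maxHeartbeats 1000000

universe u

open CategoryTheory CategoryTheory.Limits MonoidalCategory CartesianMonoidalCategory MonObj GrpObj AlgebraicGeometry
open Groth.L08.Borel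

noncomputable section

namespace Groth.L14.Luna

variable {k : Type u} [Field k] [IsAlgClosed k]

local notation "U1" => 𝟙_ (Over (Spec (CommRingCat.of k)))

theorem id_eq_one_of_isTrivialGrp {S : Scheme.{u}} {T : Over S} [GrpObj T] (h : Red.IsTrivialGrp T) :
    𝟙 T = 1 := by
  haveI : IsIso ((Over.forget _).map (toUnit T)) := (h : IsIso T.hom)
  haveI : IsIso (toUnit T) := isIso_of_reflects_iso (toUnit T) (Over.forget _)
  exact (cancel_mono (toUnit T)).1 (toUnit_unique _ _)

/-- Over an algebraically closed field the geometric fibre has no subtorus iff the group has none. -/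
theorem hasNoSubtorus_geomFibre_iff (U : Over (Spec (CommRingCat.of k))) [GrpObj U]
    (s : ↥(Spec (CommRingCat.of k))) :
    Red.HasNoSubtorus (AlgebraicClosure ((Spec (CommRingCat.of k)).residueField s)) (Red.geomFibre s U) ↔
      Red.HasNoSubtorus k U := by
  obtain ⟨ι', h1, h2⟩ := exists_inverse_geomPt s
  constructor
  · intro hU T _ j _ _ hT
    haveI := isMonHom_backIso (Red.geomPt s) ι' h1 T
    haveI : IsMonHom ((Over.pullback (Red.geomPt s)).map j) := Groth.L25.MonoClosed.isMonHom_pullbackMap _ _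
    haveI : Mono ((Over.pullback (Red.geomPt s)).map j) := Functor.map_mono _ _
    have h := id_eq_one_of_isTrivialGrp (hU _ ((Over.pullback (Red.geomPt s)).map j)
      (Groth.L25.Locus.isTorus_bc hT (Red.geomPt s)))
    refine isTrivialGrp_of_id_eq_one ?_
    have h' := congrArg ((Over.pullback ι').map) h
    rw [CategoryTheory.Functor.map_id, CategoryTheory.Functor.map_one] at h'
    rw [← cancel_epi (backIso (Red.geomPt s) ι' h1 T).hom, Category.comp_id, MonObj.comp_one]
    erw [← Category.id_comp (backIso (Red.geomPt s) ι' h1 T).hom, h', MonObj.one_comp]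
  · intro hU T _ j _ _ hT
    haveI := isMonHom_backIso (Red.geomPt s) ι' h1 U
    haveI := isMonHom_backIso ι' (Red.geomPt s) h2 T
    haveI : IsMonHom ((Over.pullback ι').map j) := Groth.L25.MonoClosed.isMonHom_pullbackMap _ _
    haveI : Mono ((Over.pullback ι').map j) := Functor.map_mono _ _
    let j'' : Red.bc ι' T ⟶ U := (Over.pullback ι').map j ≫ (backIso (Red.geomPt s) ι' h1 U).hom
    haveI : Mono j'' := mono_comp _ _
    haveI : IsMonHom j'' := inferInstanceAs (IsMonHom (_ ≫ _))
    have h := id_eq_one_of_isTrivialGrp (hU _ j'' (Groth.L25.Locus.isTorus_bc hT ι'))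
    have h' := congrArg ((Over.pullback (Red.geomPt s)).map) h
    rw [CategoryTheory.Functor.map_id, CategoryTheory.Functor.map_one] at h'
    show IsIso T.hom
    have e : 𝟙 T = 1 := by
      rw [← cancel_epi (backIso ι' (Red.geomPt s) h2 T).hom, Category.comp_id, MonObj.comp_one]
      erw [← Category.id_comp (backIso ι' (Red.geomPt s) h2 T).hom, h', MonObj.one_comp]
    haveI : IsIso (toUnit T) := ⟨1, by rw [MonObj.comp_one, ← e], toUnit_unique _ _⟩
    exact (inferInstance : IsIso ((Over.forget _).map (toUnit T)))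

/-- Over an algebraically closed field the geometric fibre is connected iff the scheme is. -/
theorem connectedSpace_geomFibre_iff (U : Over (Spec (CommRingCat.of k))) (s : ↥(Spec (CommRingCat.of k))) :
    ConnectedSpace (Red.geomFibre s U).left ↔ ConnectedSpace U.left := by
  obtain ⟨ι', h1, h2⟩ := exists_inverse_geomPt s
  haveI : IsIso (Red.geomPt s) := ⟨ι', h2, h1⟩
  let e : (Red.geomFibre s U).left ⟶ U.left := pullback.fst U.hom (Red.geomPt s)
  haveI : IsIso e := inferInstanceAs (IsIso (pullback.fst U.hom (Red.geomPt s)))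
  exact ⟨fun h => e.homeomorph.surjective.connectedSpace e.homeomorph.continuous,
    fun h => e.homeomorph.symm.surjective.connectedSpace e.homeomorph.symm.continuous⟩

/-- The properties of a unipotent radical over an algebraically closed field. -/
theorem unipotentRadical_data {U P : Over (Spec (CommRingCat.of k))} [GrpObj U] [GrpObj P] {u : U ⟶ P}
    (hu : Par.IsUnipotentRadical u) :
    IsMonHom u ∧ IsClosedImmersion u.left ∧ AlgGrp.IsNormalHom u ∧ Smooth U.hom ∧ ConnectedSpace U.left ∧
      Red.HasNoSubtorus k U := by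
  obtain ⟨s⟩ : Nonempty ↥(Spec (CommRingCat.of k)) := inferInstance
  exact ⟨hu.1, hu.2.1, hu.2.2.1, hu.2.2.2.1, (connectedSpace_geomFibre_iff U s).1 (hu.2.2.2.2.2.1 s).1,
    (hasNoSubtorus_geomFibre_iff U s).1 (hu.2.2.2.2.2.1 s).2⟩

/-- The universal property of a unipotent radical over an algebraically closed field. -/
theorem exists_factor_unipotentRadical {U P N : Over (Spec (CommRingCat.of k))} [GrpObj U] [GrpObj P] [GrpObj N]
    {u : U ⟶ P} (hu : Par.IsUnipotentRadical u) (n : N ⟶ P) [IsMonHom n] [IsClosedImmersion n.left]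
    (hn : AlgGrp.IsNormalHom n) [Smooth N.hom] [QuasiCompact N.hom] (hc : ConnectedSpace N.left)
    (hns : Red.HasNoSubtorus k N) : ∃ f : N ⟶ U, f ≫ u = n :=
  hu.2.2.2.2.2.2 N n inferInstance hn inferInstance inferInstance fun s =>
    ⟨(connectedSpace_geomFibre_iff N s).2 hc, (hasNoSubtorus_geomFibre_iff N s).2 hns⟩

/-- Building a unipotent radical over an algebraically closed field. -/
theorem isUnipotentRadical_of {U P : Over (Spec (CommRingCat.of k))} [GrpObj U] [GrpObj P] (u : U ⟶ P)
    [IsMonHom u] [IsClosedImmersion u.left] (hn : AlgGrp.IsNormalHom u) [Smooth U.hom] [QuasiCompact U.hom]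
    (hc : ConnectedSpace U.left) (hns : Red.HasNoSubtorus k U)
    (h : ∀ (U' : Over (Spec (CommRingCat.of k))) [GrpObj U'] (u' : U' ⟶ P) [IsMonHom u'],
      IsClosedImmersion u'.left → AlgGrp.IsNormalHom u' → Smooth U'.hom → QuasiCompact U'.hom →
      ConnectedSpace U'.left → Red.HasNoSubtorus k U' → ∃ f : U' ⟶ U, f ≫ u = u') :
    Par.IsUnipotentRadical u :=
  ⟨inferInstance, inferInstance, hn, inferInstance, inferInstance,
    fun s => ⟨(connectedSpace_geomFibre_iff U s).2 hc, (hasNoSubtorus_geomFibre_iff U s).2 hns⟩,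
    fun U' _ u' _ hc' hn' hs' hq' hf => by
      obtain ⟨s⟩ : Nonempty ↥(Spec (CommRingCat.of k)) := inferInstance
      exact h U' u' hc' hn' hs' hq' ((connectedSpace_geomFibre_iff U' s).1 (hf s).1)
        ((hasNoSubtorus_geomFibre_iff U' s).1 (hf s).2)⟩

/-- A connected solvable group retracts onto a maximal torus with unipotent radical as kernel. -/
theorem exists_retraction_radical (B : Over (Spec (CommRingCat.of k))) [GrpObj B] [IsAffine B.left]
    [Smooth B.hom] [ConnectedSpace B.left] (hsol : Red.IsSolvableGrp B) :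
    ∃ (T : Over (Spec (CommRingCat.of k))) (_ : GrpObj T) (iT : T ⟶ B) (p : B ⟶ T)
      (V : Over (Spec (CommRingCat.of k))) (_ : GrpObj V) (v : V ⟶ B),
      IsMonHom iT ∧ Mono iT ∧ Red.IsTorus T ∧ IsMonHom p ∧ iT ≫ p = 𝟙 T ∧ Par.IsUnipotentRadical v ∧ v ≫ p = 1 ∧
      ∀ (Y : Over (Spec (CommRingCat.of k))) (y : Y ⟶ B), y ≫ p = 1 → ∃ y' : Y ⟶ V, y' ≫ v = y := by
  obtain ⟨T, gT, iT, p, hm, hmono, hT, hp, hip, -, habs⟩ := exists_torus_absorbing hsol
  haveI := hm; haveI := hmono; haveI := hp
  obtain ⟨hTa, hTs, -, -, -⟩ := torus_props hT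
  haveI := hTa; haveI := hTs
  haveI : LocallyOfFiniteType B.hom := inferInstance
  -- the kernel
  let r : B ⟶ B := 𝟙 B * (p ≫ iT)⁻¹
  have hr : r ≫ p = 1 := by
    simp only [r, MonObj.mul_comp, GrpObj.inv_comp, Category.id_comp, Category.assoc, hip, Category.comp_id,
      mul_inv_cancel]
  haveI : IsSeparated T.hom := inferInstance
  let one : U1 ⟶ T := 1
  have hone : one = 1 := rfl
  haveI : IsClosedImmersion (one.left ≫ T.hom) := by
    rw [Over.w]; exact inferInstanceAs (IsClosedImmersion (𝟙 (Spec (CommRingCat.of k))))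
  haveI : IsClosedImmersion one.left := IsClosedImmersion.of_comp one.left T.hom
  let K : Over (Spec (CommRingCat.of k)) := Over.mk (pullback.fst p.left one.left ≫ B.hom)
  let v : K ⟶ B := Over.homMk (pullback.fst p.left one.left)
  haveI : IsClosedImmersion v.left := inferInstanceAs (IsClosedImmersion (pullback.fst p.left one.left))
  haveI : Mono v := Over.mono_of_mono_left v
  have hfac : ∀ {Y : Over (Spec (CommRingCat.of k))} (y : Y ⟶ B), y ≫ p = 1 → ∃ y' : Y ⟶ K, y' ≫ v = y := by
    intro Y y hy
    have e : y.left ≫ p.left = (toUnit Y).left ≫ one.left := by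
      rw [← Over.comp_left, ← Over.comp_left, hy, hone, MonObj.comp_one]
    exact ⟨Over.homMk (pullback.lift y.left (toUnit Y).left e) (by
      show _ ≫ (pullback.fst p.left one.left ≫ B.hom) = Y.hom
      rw [pullback.lift_fst_assoc, Over.w]), Over.OverMorphism.ext (pullback.lift_fst _ _ _)⟩
  have hvp : v ≫ p = 1 := by
    have e : v ≫ p = (Over.homMk (pullback.snd p.left one.left) (by
        show pullback.snd p.left one.left ≫ (𝟙_ (Over (Spec (CommRingCat.of k)))).hom =
          pullback.fst p.left one.left ≫ B.hom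
        rw [← Over.w p, pullback.condition_assoc, Over.w one]) : K ⟶ U1) ≫ one :=
      Over.OverMorphism.ext pullback.condition
    rw [e]; exact MonObj.comp_one _
  obtain ⟨gK, hv⟩ := Groth.L08.exists_grpObj_of_mono v
    (hfac _ (by rw [MonObj.one_eq_one, MonObj.one_comp]))
    (hfac _ (by rw [MonObj.mul_comp, Category.assoc, Category.assoc, hvp, MonObj.comp_one, MonObj.comp_one,
      _root_.mul_one]))
    (hfac _ (by rw [GrpObj.inv_comp, hvp, inv_one]))
  obtain ⟨ρ, hρ⟩ := hfac r hr
  have hvρ : v ≫ ρ = 𝟙 K := by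
    rw [← cancel_mono v, Category.assoc, hρ, Category.id_comp]
    simp only [r, MonObj.comp_mul, GrpObj.comp_inv, Category.comp_id]
    rw [reassoc_of% hvp, MonObj.one_comp, inv_one, _root_.mul_one]
  haveI : Epi ρ := epi_of_epi_fac hvρ
  haveI : Surjective ρ.left := ⟨fun x => ⟨v.left x, by
    rw [← Scheme.Hom.comp_apply, ← Over.comp_left, hvρ]; rfl⟩⟩
  haveI hKc : ConnectedSpace K.left := ρ.left.surjective.connectedSpace ρ.left.continuous
  haveI : LocallyOfFiniteType K.hom := by rw [← Over.w v]; infer_instance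
  haveI : IsAffine K.left := isAffine_of_isAffineHom v.left
  haveI : IsReduced B.left := Groth.Agent.AV.isReduced_of_smooth_field B.hom
  obtain ⟨R, gR, jR, hjR, hjRc, hRs, hjRs, hRfac⟩ := exists_red_subgroup K
  haveI := hjRc
  obtain ⟨z, hz⟩ := hRfac B ρ inferInstance
  haveI : IsIso jR := by
    haveI : Mono jR := Over.mono_of_mono_left jR
    haveI : IsSplitEpi jR := ⟨⟨⟨v ≫ z, by rw [Category.assoc, hz, hvρ]⟩⟩⟩
    exact isIso_of_mono_of_isSplitEpi jR
  haveI : IsIso jR.left := inferInstanceAs (IsIso ((Over.forget _).map jR))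
  haveI : IsIso (inv jR).left := inferInstanceAs (IsIso ((Over.forget _).map (inv jR)))
  haveI hKs : Smooth K.hom := by
    rw [← Over.w (inv jR)]
    haveI := hRs
    infer_instance
  haveI : QuasiCompact K.hom := quasiCompact_of_compactSpace _
  have hnorm : AlgGrp.IsNormalHom v := fun Y g n => by
    obtain ⟨n', hn'⟩ := hfac (g * (n ≫ v) * g⁻¹) (by
      rw [MonObj.mul_comp, MonObj.mul_comp, GrpObj.inv_comp, Category.assoc, hvp, MonObj.comp_one,
        _root_.mul_one, mul_inv_cancel])
    exact ⟨n', hn'.symm⟩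
  have hns : Red.HasNoSubtorus k K := by
    intro S _ jS _ _ hS
    obtain ⟨g, φ, hφ⟩ := habs S (jS ≫ v) hS
    have h1 : φ = 1 := by
      calc φ = φ ≫ iT ≫ p := by rw [hip, Category.comp_id]
        _ = AGF.conjBy g (jS ≫ v) ≫ p := by rw [← Category.assoc, hφ]
        _ = 1 := by
          rw [conjBy_comp, Category.assoc, hvp, MonObj.comp_one]
          simp [AGF.conjBy]
    have h3 := congrArg (AGF.conjBy g⁻¹) hφ
    rw [conjBy_conjBy, inv_mul_cancel, conjBy_one, h1, MonObj.one_comp] at h3
    refine isTrivialGrp_of_id_eq_one ?_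
    rw [← cancel_mono jS, ← cancel_mono v, Category.id_comp, MonObj.one_comp, MonObj.one_comp, ← h3]
    simp [AGF.conjBy]
  refine ⟨T, gT, iT, p, K, gK, v, hm, hmono, hT, hp, hip,
    isUnipotentRadical_of v hnorm hKc hns fun U' _ u' _ hc _ hs hq hcon hns' => hfac u' ?_, hvp,
    fun Y y hy => hfac y hy⟩
  haveI := hc; haveI := hs; haveI := hcon
  haveI : IsAffine U'.left := isAffine_of_isAffineHom u'.left
  haveI : Mono u' := Over.mono_of_mono_left u'
  exact hom_torus_eq_one (isSolvableGrp_of_mono u' hsol) hns' hT (u' ≫ p)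

/-- A connected solvable group has a unipotent radical. -/
theorem exists_unipotentRadical_solvable (B : Over (Spec (CommRingCat.of k))) [GrpObj B] [IsAffine B.left]
    [Smooth B.hom] [ConnectedSpace B.left] (hsol : Red.IsSolvableGrp B) :
    ∃ (V : Over (Spec (CommRingCat.of k))) (_ : GrpObj V) (v : V ⟶ B), Par.IsUnipotentRadical v := by
  obtain ⟨-, -, -, -, V, gV, v, -, -, -, -, -, hV, -⟩ := exists_retraction_radical B hsol
  exact ⟨V, gV, v, hV⟩

end Groth.L14.Luna
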