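import Mathlib.Topology.KrullDimension
import Mathlib.Topology.JacobsonSpace

/-!
# Closed maps injective on closed points do not decrease dimension
-/

set_option autoImplicit false

open TopologicalSpace Topology Order

namespace Groth.L14.Luna

theorem topologicalKrullDim_le_range {α β : Type*} [TopologicalSpace α] [TopologicalSpace β] [JacobsonSpace α]
    {f : α → β} (hf : IsClosedMap f) (hcont : Continuous f)
    (hinj : ∀ x ∈ closedPoints α, ∀ y ∈ closedPoints α, f x = f y → x = y) :
    topologicalKrullDim α ≤ topologicalKrullDim ↥(Set.range f) := by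
  let g : α → Set.range f := Set.rangeFactorization f
  have hg : Continuous g := hcont.subtype_mk _
  have hgc : IsClosedMap g := fun s hs => by
    have : g '' s = Subtype.val ⁻¹' (f '' s) := by
      ext ⟨y, hy⟩
      constructor
      · rintro ⟨x, hx, e⟩; exact ⟨x, hx, congrArg Subtype.val e⟩
      · rintro ⟨x, hx, e⟩; exact ⟨x, hx, Subtype.ext e⟩
    rw [this]
    exact (hf s hs).preimage continuous_subtype_val
  refine krullDim_le_of_strictMono (fun C => IrreducibleCloseds.map g hg C) fun C D hCD => ?_
  refine lt_of_le_not_ge ?_ fun hge => ?_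
  · show (IrreducibleCloseds.map g hg C : Set (Set.range f)) ⊆ IrreducibleCloseds.map g hg D
    rw [IrreducibleCloseds.coe_map, IrreducibleCloseds.coe_map]
    exact closure_mono (Set.image_mono hCD.le)
  obtain ⟨c, ⟨hcD, hcC⟩, hc⟩ := nonempty_inter_closedPoints (Z := (D : Set α) \ C)
    (Set.nonempty_of_ssubset hCD) (D.isClosed.isLocallyClosed.inter C.isClosed.isOpen_compl.isLocallyClosed)
  have h1 : g c ∈ (IrreducibleCloseds.map g hg C : Set (Set.range f)) := by
    refine hge ?_
    show g c ∈ (IrreducibleCloseds.map g hg D : Set (Set.range f))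
    rw [IrreducibleCloseds.coe_map]
    exact subset_closure ⟨c, hcD, rfl⟩
  rw [IrreducibleCloseds.coe_map, (hgc _ C.isClosed).closure_eq] at h1
  obtain ⟨e, he, hec⟩ := h1
  have hclosed : IsClosed ({f c} : Set β) := by
    rw [← Set.image_singleton]; exact hf _ hc
  obtain ⟨e', ⟨he', he'c⟩, hecl⟩ := nonempty_inter_closedPoints (Z := (C : Set α) ∩ f ⁻¹' {f c})
    ⟨e, he, congrArg Subtype.val hec⟩ ((C.isClosed.inter (hclosed.preimage hcont)).isLocallyClosed)
  exact hcC (hinj e' hecl c hc he'c ▸ he')

theorem topologicalKrullDim_le_of_surjective {α β : Type*} [TopologicalSpace α] [TopologicalSpace β] [QuasiSober β]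
    {g : α → β} (hg : Continuous g) (hs : Function.Surjective g) (hspec : SpecializingMap g) :
    topologicalKrullDim β ≤ topologicalKrullDim α := by
  refine iSup_le fun l => ?_
  let z : Fin (l.length + 1) → β := fun i => (l i).isIrreducible.genericPoint
  have hz : ∀ i, closure ({z i} : Set β) = (l i : Set β) := fun i =>
    (l i).isIrreducible.closure_genericPoint (l i).isClosed
  have hzs : ∀ i : Fin l.length, z i.succ ⤳ z i.castSucc := fun i => by
    rw [specializes_iff_mem_closure, hz]
    exact (show (l i.castSucc : Set β) ⊆ l i.succ from (l.step i).le) (hz i.castSucc ▸ subset_closure rfl)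
  have hzn : ∀ i : Fin l.length, ¬ z i.castSucc ⤳ z i.succ := fun i h => (lt_iff_le_not_ge.1 (l.step i)).2 (by
    show (l i.succ : Set β) ⊆ (l i.castSucc : Set β)
    rw [← hz]
    exact closure_minimal (Set.singleton_subset_iff.2 (hz i.castSucc ▸ specializes_iff_mem_closure.1 h)) (l _).isClosed)
  have lift : ∀ (i : Fin l.length) (w : {w : α // g w = z i.succ}),
      ∃ w' : {w : α // g w = z i.castSucc}, w.1 ⤳ w'.1 := fun i w => by
    obtain ⟨w', h1, h2⟩ := hspec (show g w.1 ⤳ z i.castSucc from w.2.symm ▸ hzs i)
    exact ⟨⟨w', h2⟩, h1⟩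
  choose step hstep using lift
  let W : ∀ i, {w : α // g w = z i} := fun i =>
    Fin.reverseInduction (motive := fun i => {w : α // g w = z i})
      ⟨(hs (z (Fin.last _))).choose, (hs (z (Fin.last _))).choose_spec⟩ step i
  have hW : ∀ i : Fin l.length, (W i.succ).1 ⤳ (W i.castSucc).1 := fun i => by
    simp only [W, Fin.reverseInduction_castSucc]
    exact hstep i _
  refine le_trans (le_of_eq (by rfl)) (LTSeries.length_le_krullDim
    ⟨l.length, fun i => ⟨closure {(W i).1}, isIrreducible_singleton.closure, isClosed_closure⟩, fun i => ?_⟩)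
  refine lt_of_le_not_ge (closure_minimal (Set.singleton_subset_iff.2 (specializes_iff_mem_closure.1 (hW i)))
    isClosed_closure) fun h => hzn i ?_
  have h' : (W i.castSucc).1 ⤳ (W i.succ).1 := specializes_iff_mem_closure.2 (h (subset_closure rfl))
  have h'' := h'.map hg
  rwa [(W i.castSucc).2, (W i.succ).2] at h''

end Groth.L14.Luna
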