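import Groth.Agent.L08.Borel.SolvTori
import Groth.Agent.L08.Borel.LineAct
import Groth.Agent.L01.LieKolchin
import Groth.Agent.L24.Count.UnipScheme
import Groth.Agent.S3268

/-!
# Points of affine groups, semi-invariant functionals and nowhere vanishing functions
-/

set_option autoImplicit false
set_option backward.isDefEq.respectTransparency.types false
set_option linter.style.haveILetI false
set_option linter.unusedSectionVars false

universe u

open CategoryTheory CategoryTheory.Limits MonoidalCategory CartesianMonoidalCategory MonObj GrpObj AlgebraicGeometry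
open TensorProduct WithConv
open Groth.L25.Bridge (P)
open Groth.L08.TorusQuot (sp exists_sp sp_left)
open Groth.L08.HomSpace (specOf)
open Groth.L08.Borel
open Groth.L08 (ptAct)

noncomputable section

namespace Groth.L14.Luna

variable {k : Type u} [Field k] [IsAlgClosed k]

local notation "U1" => 𝟙_ (Over (Spec (CommRingCat.of k)))

variable {A : Type u} [CommRing A] [HopfAlgebra k A] [Algebra.FiniteType k A]

theorem gPt_injective {g h : A →ₐ[k] k} (e : gPt g = gPt h) : g = h :=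
  AlgHom.ext fun a => by
    have e1 : Spec.map (CommRingCat.ofHom g.toRingHom) = Spec.map (CommRingCat.ofHom h.toRingHom) :=
      congrArg CommaMorphism.left e
    exact congr($(congrArg CommRingCat.Hom.hom (Spec.map_injective e1)) a)

theorem pointsHom_bijective {G : Over (Spec (CommRingCat.of k))} (φ : specOf k A ⟶ G) [IsIso φ] :
    Function.Bijective fun g : WithConv (A →ₐ[k] k) => gPt g.ofConv ≫ φ :=
  ⟨fun g h e => WithConv.ext (gPt_injective ((cancel_mono φ).1 e)), fun z => by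
    obtain ⟨g, hg⟩ := exists_gPt (z ≫ inv φ)
    exact ⟨toConv g, by
      show gPt g ≫ φ = z
      rw [hg, Category.assoc, IsIso.inv_hom_id, Category.comp_id]⟩⟩

/-- The rational points of a group isomorphic to a spectrum. -/
def pointsEquiv {G : Over (Spec (CommRingCat.of k))} [GrpObj G] (φ : specOf k A ⟶ G) [IsMonHom φ] [IsIso φ] :
    WithConv (A →ₐ[k] k) ≃* (U1 ⟶ G) where
  toEquiv := Equiv.ofBijective _ (pointsHom_bijective φ)
  map_mul' g h := by
    show gPt (g * h).ofConv ≫ φ = (gPt g.ofConv ≫ φ) * (gPt h.ofConv ≫ φ)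
    rw [gPt_mul, MonObj.mul_comp]

theorem pointsEquiv_apply {G : Over (Spec (CommRingCat.of k))} [GrpObj G] (φ : specOf k A ⟶ G) [IsMonHom φ] [IsIso φ]
    (g : WithConv (A →ₐ[k] k)) : pointsEquiv φ g = gPt g.ofConv ≫ φ := rfl

theorem gPt_comp {C : Type u} [CommRing C] [HopfAlgebra k C] (r : A →ₐc[k] C) (y : C →ₐ[k] k) :
    gPt y ≫ sp r = gPt (y.comp (r : A →ₐ[k] C)) := by
  refine Over.OverMorphism.ext ?_
  rw [Over.comp_left, sp_left]
  exact (Spec.map_comp _ _).symm

variable {V : Type u} [AddCommGroup V] [Module k V] [HopfRep.Comod k A V] [Module.Finite k V]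

/-- A semi-invariant functional on an orbit under a connected solvable group. -/
theorem exists_eigen {B : Over (Spec (CommRingCat.of k))} [GrpObj B] [IsAffine B.left] [Smooth B.hom]
    [ConnectedSpace B.left] (hsol : Red.IsSolvableGrp B) (f : B ⟶ specOf k A) [IsMonHom f] {v : V} (hv : v ≠ 0) :
    ∃ (W : Submodule k V) (θ : Module.Dual k V) (x₀ : WithConv (A →ₐ[k] k)),
      (∀ x : WithConv (A →ₐ[k] k), ptAct (A := A) V x v ∈ W) ∧
      θ (ptAct (A := A) V x₀ v) = 1 ∧
      ∀ (b : U1 ⟶ B) (x : WithConv (A →ₐ[k] k)), gPt x.ofConv = b ≫ f →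
        ∀ w ∈ W, ptAct (A := A) V x w ∈ W ∧ θ (ptAct (A := A) V x w) = θ (ptAct (A := A) V x (ptAct (A := A) V x₀ v)) * θ w := by
  classical
  obtain ⟨C, _, _, hft, hred, hconn, hsolC, ⟨e⟩⟩ := exists_hopf_data hsol
  haveI := hft; haveI := hred; haveI := hsolC
  let φ : P k C ⟶ B := e.inv.hom.hom
  let ψ : B ⟶ P k C := e.hom.hom.hom
  haveI : IsMonHom φ := e.inv.hom.isMonHom_hom
  have hψφ : ψ ≫ φ = 𝟙 B := congrArg (fun f => f.hom.hom) e.hom_inv_id
  obtain ⟨r, hr⟩ := exists_sp (φ ≫ f)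
  have hT : HopfRep.IsTrigonalizable k C := Groth.L01.LieKolchin.isTrigonalizable hconn
  let i : A →ₗc[k] C := (r : A →ₗc[k] C)
  let cB : HopfRep.Comod k C V := Groth.L08.push i ‹HopfRep.Comod k A V›
  obtain ⟨F, hmono, hsub, hdim⟩ := @Groth.Agent.S3268.result k _ C _ _ hT V _ _ cB _
  let d := Module.finrank k V
  have htop : F d = ⊤ := Submodule.eq_top_of_finrank_eq (hdim d le_rfl)
  have hex : ∃ m, ∀ x : WithConv (A →ₐ[k] k), ptAct (A := A) V x v ∈ F m :=
    ⟨d, fun x => by rw [htop]; trivial⟩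
  have hle : Nat.find hex ≤ d := Nat.find_le fun x => by rw [htop]; trivial
  have hpos : Nat.find hex ≠ 0 := fun h0 => by
    have h := Nat.find_spec hex 1
    rw [h0, map_one, Module.End.one_apply, Submodule.finrank_eq_zero.1 (hdim 0 (Nat.zero_le d)),
      Submodule.mem_bot] at h
    exact hv h
  obtain ⟨m, hm⟩ := Nat.exists_eq_succ_of_ne_zero hpos
  have hW : ∀ x : WithConv (A →ₐ[k] k), ptAct (A := A) V x v ∈ F (m + 1) := by
    have h := Nat.find_spec hex
    rwa [hm] at h
  obtain ⟨x₀, hx₀⟩ : ∃ x : WithConv (A →ₐ[k] k), ptAct (A := A) V x v ∉ F m := by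
    have := Nat.find_min hex (show m < Nat.find hex by omega)
    push Not at this
    exact this
  obtain ⟨θ₀, hθ₀, hker⟩ := Submodule.exists_le_ker_of_notMem hx₀
  let w₀ := ptAct (A := A) V x₀ v
  let θ : Module.Dual k V := (θ₀ w₀)⁻¹ • θ₀
  have hθw : θ w₀ = 1 := inv_mul_cancel₀ hθ₀
  have hθF : ∀ w ∈ F m, θ w = 0 := fun w hw => by
    show _ * θ₀ w = 0
    rw [show θ₀ w = 0 from LinearMap.mem_ker.1 (hker hw), mul_zero]
  refine ⟨F (m + 1), θ, x₀, hW, hθw, fun b x hx => ?_⟩
  have hstab : ∀ l, ∀ w ∈ F l, ptAct (A := A) V x w ∈ F l := by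
    intro l w hw
    obtain ⟨y, hy⟩ := exists_gPt (b ≫ ψ)
    have hxy : x.ofConv = y.comp (r : A →ₐ[k] C) := gPt_injective (by
      rw [← gPt_comp, hr, hx, hy]
      simp only [Category.assoc, reassoc_of% hψφ])
    have h := (letI := cB; Groth.L08.isSubcomod_iff (k := k) (A := C) (W := F l)).1 (hsub l) y.toLinearMap w hw
    rw [Groth.L08.fAct_push] at h
    rw [Groth.L08.ptAct_apply, hxy]
    exact h
  have hspan : ∀ w ∈ F (m + 1), w - θ w • w₀ ∈ F m := by
    intro w hw
    have hd1 : Module.finrank k (F m) = m := hdim m (by omega)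
    have hd2 : Module.finrank k (F (m + 1)) = m + 1 := hdim (m + 1) (by omega)
    have hsup : F m ⊔ Submodule.span k {w₀} = F (m + 1) := by
      refine Submodule.eq_of_le_of_finrank_le (sup_le (hmono (Nat.le_succ m))
        ((Submodule.span_singleton_le_iff_mem _ _).2 (hW x₀))) ?_
      rw [hd2]
      have hlt : F m < F m ⊔ Submodule.span k {w₀} :=
        lt_of_le_of_ne le_sup_left fun h => hx₀ (h ▸ Submodule.mem_sup_right (Submodule.mem_span_singleton_self w₀))
      have := Submodule.finrank_lt_finrank_of_lt hlt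
      omega
    rw [← hsup] at hw
    obtain ⟨p, hp, q, hq, rfl⟩ := Submodule.mem_sup.1 hw
    obtain ⟨c, rfl⟩ := Submodule.mem_span_singleton.1 hq
    rwa [map_add, hθF p hp, _root_.zero_add, map_smul, hθw, smul_eq_mul, _root_.mul_one, add_sub_cancel_right]
  intro w hw
  refine ⟨hstab _ w hw, ?_⟩
  have h := hθF _ (hstab m _ (hspan w hw))
  rw [map_sub, map_smul, map_sub, map_smul, sub_eq_zero, smul_eq_mul] at h
  rw [h, mul_comm]

/-- A function without zeros on the points of a connected group without subtori is constant there. -/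
theorem eq_one_of_noSubtorus {H : Over (Spec (CommRingCat.of k))} [GrpObj H] [IsAffine H.left] [Smooth H.hom]
    [ConnectedSpace H.left] (hsol : Red.IsSolvableGrp H) (hH : Red.HasNoSubtorus k H) (f : H ⟶ specOf k A)
    (a : A) (hne : ∀ (h : U1 ⟶ H) (x : A →ₐ[k] k), gPt x = h ≫ f → x a ≠ 0)
    (h1 : ∀ x : A →ₐ[k] k, gPt x = (1 : U1 ⟶ H) ≫ f → x a = 1)
    (h : U1 ⟶ H) (x : A →ₐ[k] k) (hx : gPt x = h ≫ f) : x a = 1 := by
  obtain ⟨C, _, _, hft, hred, hconn, -, ⟨e⟩⟩ := exists_hopf_data hsol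
  haveI := hft; haveI := hred
  let φ : P k C ⟶ H := e.inv.hom.hom
  let ψ : H ⟶ P k C := e.hom.hom.hom
  haveI : IsMonHom φ := e.inv.hom.isMonHom_hom
  have hψφ : ψ ≫ φ = 𝟙 H := congrArg (fun f => f.hom.hom) e.hom_inv_id
  have hφψ : φ ≫ ψ = 𝟙 _ := congrArg (fun f => f.hom.hom) e.inv_hom_id
  haveI : IsIso φ := ⟨ψ, hφψ, hψφ⟩
  haveI : IsIso φ.left := inferInstanceAs (IsIso ((Over.forget _).map φ))
  haveI : AlgebraicGeometry.Smooth (P k C).hom := by rw [← Over.w φ]; infer_instance
  haveI : ConnectedSpace (P k C).left := φ.left.homeomorph.symm.surjective.connectedSpace φ.left.homeomorph.symm.continuous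
  have hU : HopfRep.IsUnipotent k C :=
    Groth.L24.Count.isUnipotent_of_noSubtorus hconn fun T _ j _ _ hT => hH T (j ≫ φ) hT
  obtain ⟨g, hg⟩ := Spec.map_surjective ((φ ≫ f).left : Spec (CommRingCat.of C) ⟶ Spec (CommRingCat.of A))
  have hval : ∀ y : C →ₐ[k] k, ∃ x' : A →ₐ[k] k, gPt x' = (gPt y ≫ φ) ≫ f ∧ x' a = y (g.hom a) := by
    intro y
    obtain ⟨x', hx'⟩ := exists_gPt ((gPt y ≫ φ) ≫ f)
    refine ⟨x', hx', ?_⟩
    have e1 : Spec.map (CommRingCat.ofHom x'.toRingHom) =
        Spec.map (CommRingCat.ofHom y.toRingHom) ≫ Spec.map g := by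
      rw [hg]; exact (congrArg CommaMorphism.left (hx'.trans (Category.assoc _ _ _)))
    rw [← Spec.map_comp] at e1
    exact congr($(congrArg CommRingCat.Hom.hom (Spec.map_injective e1)) a)
  have hu : IsUnit (g.hom a) := by
    by_contra hn
    obtain ⟨m, hm, ham⟩ := exists_max_ideal_of_mem_nonunits (mem_nonunits_iff.2 hn)
    obtain ⟨y, hy⟩ := exists_algHom_of_isMaximal (k := k) m
    obtain ⟨x', hx', hxa⟩ := hval y
    refine hne _ x' hx' ?_
    rw [hxa]
    by_contra h0
    have h2 := m.sub_mem ham (hy (g.hom a))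
    rw [sub_sub_cancel] at h2
    exact hm.ne_top (m.eq_top_of_isUnit_mem h2 ((isUnit_iff_ne_zero.2 h0).map (algebraMap k C)))
  have hcount : Coalgebra.counit (R := k) (g.hom a) = 1 := by
    obtain ⟨x', hx', hxa⟩ := hval (1 : WithConv (C →ₐ[k] k)).ofConv
    rw [show Coalgebra.counit (R := k) (g.hom a) = (1 : WithConv (C →ₐ[k] k)).ofConv (g.hom a) from rfl, ← hxa]
    refine h1 x' ?_
    rw [hx', gPt_one, MonObj.one_comp φ]
  have hone : g.hom a = 1 :=
    Groth.Agent.S2966.groupLike_eq_one hU (Groth.L08.Rosenlicht.isGroupLikeElem_of_isUnit hconn hu hcount)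
  obtain ⟨y, hy⟩ := exists_gPt (h ≫ ψ)
  obtain ⟨x', hx', hxa⟩ := hval y
  have : x = x' := gPt_injective (by rw [hx, hx', hy]; simp only [Category.assoc, reassoc_of% hψφ])
  rw [this, hxa, hone, map_one]

end Groth.L14.Luna
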