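import Groth.Agent.L08.Borel.LineAct
import Groth.Agent.L08.Borel.Constant

/-!
# Hyperplanes in projective space
-/

set_option autoImplicit false
set_option backward.isDefEq.respectTransparency.types false
set_option linter.style.haveILetI false
set_option linter.unusedSectionVars false

universe u

open CategoryTheory CategoryTheory.Limits MonoidalCategory CartesianMonoidalCategory MonObj GrpObj AlgebraicGeometry
open CohB1 MvPolynomial
open Groth.L08.Borel

noncomputable section

namespace Groth.L14.Luna

variable {k : Type u} [Field k] {n : ℕ}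

local notation "U1" => 𝟙_ (Over (Spec (CommRingCat.of k)))

/-- The linear form with given coefficients. -/
def linForm (c : Fin (n + 1) → k) : MvPolynomial (Fin (n + 1)) k := ∑ l, MvPolynomial.C (c l) * MvPolynomial.X l

theorem isHomogeneous_linForm (c : Fin (n + 1) → k) : (linForm c).IsHomogeneous 1 := by
  refine IsHomogeneous.sum _ _ _ fun l _ => ?_
  simpa using (isHomogeneous_C (Fin (n + 1)) (c l)).mul (isHomogeneous_X k l)

/-- The complement of a hyperplane. -/
def nonzeroSet (c : Fin (n + 1) → k) : (PnOver k n).left.Opens :=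
  Proj.basicOpen (polyGrading n k) (linForm c)

theorem mem_nonzeroSet_iff (c : Fin (n + 1) → k) (x : Fin (n + 1) → k) (j : Fin (n + 1)) (hj : IsUnit (x j)) :
    ptOf (vPt x j hj) ∈ nonzeroSet c ↔ ∑ l, c l * x l ≠ 0 := by
  have h := Groth.L18.PS.tuplePt_preimage_basicOpen (B := CommRingCat.of k) (RingHom.id k) x j hj (linForm c)
    (isHomogeneous_linForm c) one_pos
  have e : eval₂Hom (RingHom.id k) x (linForm c) = ∑ l, c l * x l := by
    simp [linForm]
  rw [e] at h
  have h' := SetLike.ext_iff.1 h (IsLocalRing.closedPoint k)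
  refine h'.trans ?_
  show _ ∉ IsLocalRing.maximalIdeal k ↔ _
  rw [IsLocalRing.maximalIdeal_eq_bot]
  rfl

theorem isAffineOpen_nonzeroSet (c : Fin (n + 1) → k) : IsAffineOpen (nonzeroSet (n := n) c) :=
  Proj.isAffineOpen_basicOpen (polyGrading n k) (linForm c)
    ((mem_homogeneousSubmodule 1 _).2 (isHomogeneous_linForm c)) one_pos

variable [IsAlgClosed k]

instance : LocallyOfFiniteType (PnOver k n).hom := by
  haveI : IsProper (PnOver k n).hom := Groth.L18.PS.isProper_toSpec n k
  infer_instance

/-- A connected variety whose closure in projective space misses a hyperplane maps to a point. -/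
theorem eq_of_avoid {H : Over (Spec (CommRingCat.of k))} [ConnectedSpace H.left] [QuasiCompact H.hom]
    (ω : H ⟶ PnOver k n) (c : Fin (n + 1) → k) (h : closure (Set.range ω.left) ⊆ (nonzeroSet c : Set _))
    (s t : U1 ⟶ H) : s ≫ ω = t ≫ ω := by
  haveI : IsProper (PnOver k n).hom := Groth.L18.PS.isProper_toSpec n k
  haveI : QuasiCompact (ω.left ≫ (PnOver k n).hom) := by rw [Over.w]; infer_instance
  haveI : QuasiCompact ω.left := QuasiCompact.of_comp ω.left (PnOver k n).hom
  let C : Over (Spec (CommRingCat.of k)) := Over.mk (ω.left.imageι ≫ (PnOver k n).hom)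
  let p : H ⟶ C := Over.homMk ω.left.toImage (by
    show ω.left.toImage ≫ ω.left.imageι ≫ _ = _
    rw [← Category.assoc, Scheme.Hom.toImage_imageι, Over.w])
  let i : C ⟶ PnOver k n := Over.homMk ω.left.imageι rfl
  have hpi : p ≫ i = ω := Over.OverMorphism.ext (Scheme.Hom.toImage_imageι _)
  haveI : IsClosedImmersion i.left := inferInstanceAs (IsClosedImmersion ω.left.imageι)
  haveI : IsProper C.hom := inferInstanceAs (IsProper (ω.left.imageι ≫ _))
  haveI : ConnectedSpace C.left := by
    have hd : DenseRange ω.left.toImage := ω.left.toImage.denseRange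
    haveI : Nonempty C.left := ⟨p.left (Classical.arbitrary H.left)⟩
    refine connectedSpace_iff_univ.2 ⟨Set.univ_nonempty, ?_⟩
    rw [← hd.closure_range]
    exact (isPreconnected_range ω.left.toImage.continuous).closure
  let U := nonzeroSet (n := n) c
  let Z : Over (Spec (CommRingCat.of k)) := Over.mk (U.ι ≫ (PnOver k n).hom)
  haveI : IsAffine Z.left := isAffineOpen_nonzeroSet c
  haveI : LocallyOfFiniteType Z.hom := inferInstanceAs (LocallyOfFiniteType (U.ι ≫ _))
  have hU : Set.range i.left ⊆ Set.range U.ι := by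
    rw [U.range_ι]
    refine subset_trans ?_ h
    show Set.range ω.left.imageι ⊆ _
    exact le_of_eq ((Scheme.IdealSheafData.range_subschemeι _).trans (Scheme.Hom.support_ker _))
  let l : C ⟶ Z := Over.homMk (IsOpenImmersion.lift U.ι i.left hU) (by
    show _ ≫ U.ι ≫ _ = _
    rw [← Category.assoc, IsOpenImmersion.lift_fac]
    rfl)
  let jU : Z ⟶ PnOver k n := Over.homMk U.ι rfl
  have hl : l ≫ jU = i := Over.OverMorphism.ext (IsOpenImmersion.lift_fac _ _ _)
  have := comp_eq_of_proper l (s ≫ p) (t ≫ p)
  rw [← hpi, ← hl, ← Category.assoc, ← Category.assoc, ← Category.assoc, ← Category.assoc, this]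

end Groth.L14.Luna
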