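import Groth.Agent.L14.Luna.GenPos
import Groth.Agent.L14.Luna.Orbits
import Groth.Agent.L14.Luna.ProjLine
import Groth.Agent.L14.Luna.Eigen
import Groth.Agent.L08.Borel.CentBorel
import Groth.Agent.L08.Borel.Weyl
import Groth.Agent.L08.Borel.DynNorm

/-!
# Unipotent subgroups of all Borel subgroups containing a maximal torus lie in every Borel subgroup

Luna's argument: the translates of one semi-invariant functional have no common zero on `G/B`.
-/

set_option autoImplicit false
set_option backward.isDefEq.respectTransparency.types false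
set_option linter.style.haveILetI false
set_option linter.unusedSectionVars false
set_option maxHeartbeats 1000000

universe u

open CategoryTheory CategoryTheory.Limits MonoidalCategory CartesianMonoidalCategory MonObj GrpObj AlgebraicGeometry
open TensorProduct WithConv
open Groth.L25.Bridge (P)
open Groth.L08 (ptAct)
open Groth.L08.HomSpace (specOf exists_hopfIdeal)
open Groth.L08.Borel

noncomputable section

namespace Groth.L14.Luna

variable {k : Type u} [Field k] [IsAlgClosed k]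

local notation "U1" => 𝟙_ (Over (Spec (CommRingCat.of k)))

/-- A morphism from a reduced scheme factors through a closed subscheme containing the images of its points. -/
theorem exists_lift_of_points {G H B : Over (Spec (CommRingCat.of k))} [IsReduced H.left]
    [LocallyOfFiniteType H.hom] (i : B ⟶ G) [IsClosedImmersion i.left] (j : H ⟶ G)
    (h : ∀ x : U1 ⟶ H, ∃ b : U1 ⟶ B, b ≫ i = x ≫ j) : ∃ f : H ⟶ B, f ≫ i = j := by
  haveI : JacobsonSpace H.left := LocallyOfFiniteType.jacobsonSpace H.hom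
  let p := pullback.fst j.left i.left
  haveI : IsClosedImmersion p := MorphismProperty.pullback_fst _ _ ‹_›
  haveI : Surjective p := by
    refine ⟨fun z => ?_⟩
    by_contra hz
    obtain ⟨x, hx⟩ := exists_pt_mem (X := H) (p.isClosedEmbedding.isClosed_range.isOpen_compl.isLocallyClosed)
      ⟨z, hz⟩
    obtain ⟨b, hb⟩ := h x
    refine hx ⟨(pullback.lift x.left b.left (congrArg CommaMorphism.left hb).symm :
      Spec (CommRingCat.of k) ⟶ pullback j.left i.left) (IsLocalRing.closedPoint k), ?_⟩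
    rw [← Scheme.Hom.comp_apply, pullback.lift_fst]
  haveI : IsIso p := isIso_of_isClosedImmersion_of_surjective p
  refine ⟨Over.homMk (inv p ≫ pullback.snd j.left i.left) ?_, Over.OverMorphism.ext ?_⟩
  · show (inv p ≫ pullback.snd j.left i.left) ≫ B.hom = H.hom
    rw [← Over.w i, Category.assoc, ← pullback.condition_assoc, IsIso.inv_hom_id_assoc, Over.w]
  · show (inv p ≫ pullback.snd j.left i.left) ≫ i.left = j.left
    rw [Category.assoc, ← pullback.condition, IsIso.inv_hom_id_assoc]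

/-- Restriction of an action along a homomorphism. -/
def restrict {G T X : Over (Spec (CommRingCat.of k))} [GrpObj G] [GrpObj T] (a : AlgGrp.Action G X) (f : T ⟶ G)
    [IsMonHom f] : AlgGrp.Action T X where
  act := (f ▷ X) ≫ a.act
  one_act := by
    rw [← comp_whiskerRight_assoc, IsMonHom.one_hom]
    exact a.one_act
  mul_act := by
    have h1 : ∀ {Y : Over (Spec (CommRingCat.of k))} (t : Y ⟶ T) (x : Y ⟶ X),
        lift t x ≫ (f ▷ X) ≫ a.act = lift (t ≫ f) x ≫ a.act := fun t x => by rw [lift_whiskerRight_assoc]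
    rw [← Category.id_comp ((μ[T] ▷ X) ≫ _), ← Category.id_comp ((α_ T T X).hom ≫ _)]
    have hid : 𝟙 ((T ⊗ T) ⊗ X) = lift (lift (fst (T ⊗ T) X ≫ fst T T) (fst (T ⊗ T) X ≫ snd T T)) (snd (T ⊗ T) X) :=
      CartesianMonoidalCategory.hom_ext _ _ (by
        rw [lift_fst, Category.id_comp, ← comp_lift, lift_fst_snd, Category.comp_id]) (by rw [lift_snd, Category.id_comp])
    rw [hid]
    simp only [Category.assoc, lift_whiskerRight_assoc, lift_lift_associator_hom_assoc, lift_whiskerLeft_assoc, h1]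
    rw [← Category.assoc (CartesianMonoidalCategory.lift _ _) μ[T] f, ← Hom.mul_def, mul_comp,
      Groth.L25.Actions.mul_act]
    simp only [Category.assoc]

theorem lift_restrict {G T X : Over (Spec (CommRingCat.of k))} [GrpObj G] [GrpObj T] (a : AlgGrp.Action G X) (f : T ⟶ G)
    [IsMonHom f] {Y : Over (Spec (CommRingCat.of k))} (t : Y ⟶ T) (x : Y ⟶ X) :
    lift t x ≫ (restrict a f).act = lift (t ≫ f) x ≫ a.act := by
  show lift t x ≫ (f ▷ X) ≫ a.act = _
  rw [lift_whiskerRight_assoc]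

/-- **Luna**: a smooth connected subgroup without subtori contained in all Borel subgroups containing a maximal
torus is contained in every Borel subgroup. -/
theorem exists_factor_borel {G T H : Over (Spec (CommRingCat.of k))} [GrpObj G] [GrpObj T] [GrpObj H]
    [IsAffine G.left] [Smooth G.hom] [ConnectedSpace G.left] {iT : T ⟶ G} (hT : AGF.IsMaxTorus iT)
    (j : H ⟶ G) [IsMonHom j] [IsClosedImmersion j.left] [Smooth H.hom] [ConnectedSpace H.left]
    (hHns : Red.HasNoSubtorus k H)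
    (hH : ∀ (B : Over (Spec (CommRingCat.of k))) [GrpObj B] (iB : B ⟶ G) (t : T ⟶ B),
      Red.IsBorelOver k iB → t ≫ iB = iT → ∃ f : H ⟶ B, f ≫ iB = j)
    {B₁ : Over (Spec (CommRingCat.of k))} [GrpObj B₁] (i₁ : B₁ ⟶ G) (hB₁ : Red.IsBorelOver k i₁) :
    ∃ f : H ⟶ B₁, f ≫ i₁ = j := by
  classical
  haveI := hT.1; haveI := hT.2.1
  haveI : LocallyOfFiniteType G.hom := inferInstance
  haveI : IsAffine H.left := isAffine_of_isAffineHom j.left
  haveI : LocallyOfFiniteType H.hom := inferInstance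
  haveI : QuasiCompact H.hom := quasiCompact_of_compactSpace _
  haveI : IsReduced H.left := Groth.Agent.AV.isReduced_of_smooth_field H.hom
  haveI := hB₁.1; haveI := hB₁.2.1
  refine exists_lift_of_points i₁ j fun h => ?_
  obtain ⟨B, B', _, _, iB, iB', t, t', O, hB, hB', ht, ht', hOne, hO⟩ := exists_general_position hT
  haveI := hB.1; haveI := hB.2.1; haveI := hB.2.2.1; haveI := hB.2.2.2.1
  haveI := hB'.1; haveI := hB'.2.1; haveI := hB'.2.2.1; haveI := hB'.2.2.2.1
  haveI : IsAffine B.left := isAffine_of_isAffineHom iB.left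
  haveI : IsAffine B'.left := isAffine_of_isAffineHom iB'.left
  haveI : Mono iB := Groth.L08.mono_of_closedImmersion iB
  haveI : Mono iB' := Groth.L08.mono_of_closedImmersion iB'
  obtain ⟨g₁, e₁, he₁⟩ := Groth.Agent.S3900.result k G B B₁ iB i₁ hB hB₁
  suffices key : ∀ g : U1 ⟶ G, ∃ b : U1 ⟶ B, b ≫ iB = g⁻¹ * (h ≫ j) * g by
    obtain ⟨b, hb⟩ := key g₁
    refine ⟨b ≫ e₁.hom, ?_⟩
    rw [Category.assoc, he₁, comp_conjBy]
    simp [AGF.conjBy, toUnit_unique (toUnit U1) (𝟙 _), hb, _root_.mul_assoc]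
  -- coordinates
  obtain ⟨A, _, _, ⟨eG⟩⟩ := Groth.L25.Bridge.exists_hopf G
  let φ : specOf k A ⟶ G := eG.inv.hom.hom
  let ψ : G ⟶ specOf k A := eG.hom.hom.hom
  have hψφ : ψ ≫ φ = 𝟙 G := congrArg (fun f => f.hom.hom) eG.hom_inv_id
  have hφψ : φ ≫ ψ = 𝟙 _ := congrArg (fun f => f.hom.hom) eG.inv_hom_id
  haveI : IsMonHom φ := eG.inv.hom.isMonHom_hom
  haveI : IsMonHom ψ := eG.hom.hom.isMonHom_hom
  haveI : IsIso φ := ⟨ψ, hφψ, hψφ⟩
  haveI : IsIso ψ := ⟨φ, hψφ, hφψ⟩
  haveI : IsIso φ.left := inferInstanceAs (IsIso ((Over.forget _).map φ))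
  haveI : IsIso ψ.left := inferInstanceAs (IsIso ((Over.forget _).map ψ))
  haveI hft : LocallyOfFiniteType (specOf k A).hom := by rw [← Over.w φ]; infer_instance
  haveI : Algebra.FiniteType k A := by
    change LocallyOfFiniteType (Spec.map (CommRingCat.ofHom (algebraMap k A))) at hft
    rwa [HasRingHomProperty.Spec_iff (P := @LocallyOfFiniteType), CommRingCat.hom_ofHom,
      RingHom.finiteType_algebraMap] at hft
  haveI : IsReduced G.left := Groth.Agent.AV.isReduced_of_smooth_field G.hom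
  let φl : Spec (CommRingCat.of A) ⟶ G.left := φ.left
  haveI : IsIso φl := ‹IsIso φ.left›
  haveI hAr : IsReduced (Spec (CommRingCat.of A)) := isReduced_of_isOpenImmersion φl
  haveI : IsReduced (specOf k A).left := hAr
  haveI : _root_.IsReduced A := affine_isReduced_iff (CommRingCat.of A) |>.1 hAr
  haveI : ConnectedSpace (PrimeSpectrum A) := ψ.left.homeomorph.surjective.connectedSpace ψ.left.homeomorph.continuous
  have hconn : ∀ e : A, IsIdempotentElem e → e = 0 ∨ e = 1 := idempotent_trivial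
  let π := pointsEquiv (A := A) φ
  have hπ : ∀ x, π x ≫ ψ = gPt x.ofConv := fun x => by
    rw [pointsEquiv_apply, Category.assoc, hφψ, Category.comp_id]
  -- the line of the Borel subgroup
  haveI : IsClosedImmersion (iB ≫ ψ).left := inferInstanceAs (IsClosedImmersion (iB.left ≫ ψ.left))
  obtain ⟨I, hI, hpts⟩ := exists_hopfIdeal (iB ≫ ψ)
  obtain ⟨V, _, _, _, hfin, v, hv, hrep⟩ := Groth.L08.Chevalley.exists_line (k := k) I
  have hu : Groth.L08.Borel.unitToSpec (k := k) ≫ 𝟙 _ = unitToSpec := Category.comp_id _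
  have hstab : ∀ x : WithConv (A →ₐ[k] k),
      (∃ b : U1 ⟶ B, b ≫ iB = π x) ↔ ∃ c : k, ptAct (A := A) V x v = c • v := by
    intro x
    refine Iff.trans ?_ (((hpts k x).trans (hrep k x.ofConv)).trans (stabilizesLine_iff_act v x.ofConv))
    haveI : IsIso (unitToSpec (k := k)).left := inferInstanceAs (IsIso (𝟙 (Spec (CommRingCat.of k))))
    haveI : IsIso ((Over.forget _).map (unitToSpec (k := k))) := ‹_›
    haveI : IsIso (unitToSpec (k := k)) := isIso_of_reflects_iso _ (Over.forget _)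
    constructor
    · rintro ⟨b, hb⟩
      refine ⟨inv unitToSpec ≫ b, ?_⟩
      rw [Category.assoc, IsIso.inv_comp_eq, ← Category.assoc b, hb, hπ, gPt_eq]
    · rintro ⟨z, hz⟩
      refine ⟨unitToSpec ≫ z, ?_⟩
      rw [← cancel_mono ψ, Category.assoc, Category.assoc, hz, hπ, gPt_eq]
  -- the semi-invariant functional of the opposite subgroup
  obtain ⟨W, θ, x₀, hW, hθw₀, heig⟩ := exists_eigen (V := V) hB'.2.2.2.2.1 (iB' ≫ ψ) hv
  let w₀ := ptAct (A := A) V x₀ v
  have hw₀ : w₀ ∈ W := hW x₀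
  have heig' : ∀ (b : U1 ⟶ B') (x : WithConv (A →ₐ[k] k)), π x = b ≫ iB' → ∀ w ∈ W,
      ptAct (A := A) V x w ∈ W ∧ θ (ptAct (A := A) V x w) = θ (ptAct (A := A) V x w₀) * θ w :=
    fun b x hx => heig b x (by rw [← hπ, hx, Category.assoc])
  have hθv : θ v ≠ 0 := by
    intro h0
    haveI : IsDomain A := by
      haveI : Nontrivial A := (Bialgebra.counitAlgHom k A).toRingHom.domain_nontrivial
      haveI : (⊥ : Ideal A).IsPrime := by
        have h := Groth.L08.KrullHopf.nilradical_isPrime k hconn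
        rwa [nilradical_eq_zero A] at h
      exact IsDomain.of_bot_isPrime A
    obtain ⟨p, hp⟩ := hOne
    let O' : TopologicalSpace.Opens (PrimeSpectrum A) := φl ⁻¹ᵁ O
    obtain ⟨q, hq⟩ := φ.left.homeomorph.surjective p
    obtain ⟨_, ⟨_, ⟨f, rfl⟩, rfl⟩, hqf, hfO⟩ := PrimeSpectrum.isBasis_basic_opens.exists_subset_of_mem_open
      (show q ∈ (O' : Set (PrimeSpectrum A)) from by show φ.left q ∈ O; exact hq ▸ hp) O'.isOpen
    have hf : f ≠ 0 := by
      rintro rfl
      exact hqf q.asIdeal.zero_mem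
    let a : A := Groth.L08.cf θ v
    have ha : a * f = 0 := Groth.L25.GeomIrred.eq_zero_of_forall_algHom (k := k) _ fun x => by
      rw [map_mul]
      by_cases hx : x f = 0
      · rw [hx, mul_zero]
      · have hxO : ptOf (π (toConv x)) ∈ O := by
          refine hfO (a := (gPt x).left (IsLocalRing.closedPoint k)) ?_
          show f ∉ Ideal.comap x.toRingHom (IsLocalRing.maximalIdeal k)
          rw [IsLocalRing.maximalIdeal_eq_bot]
          exact fun h => hx h
        obtain ⟨b', b, hbb⟩ := hO _ hxO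
        obtain ⟨x', hx'⟩ := π.surjective (b' ≫ iB')
        obtain ⟨y, hy⟩ := π.surjective (b ≫ iB)
        have hxy : toConv x = x' * y := π.injective (by rw [map_mul, hx', hy, hbb])
        obtain ⟨c, hc⟩ := (hstab y).1 ⟨b, hy.symm⟩
        rw [Groth.L01.LieKolchin.point_cf, hxy, map_mul, Module.End.mul_apply, hc, map_smul, map_smul,
          (heig' b' x' hx' v (by simpa using hW 1)).2, h0, mul_zero, smul_zero, zero_mul]
    have ha0 : a = 0 := (mul_eq_zero.1 ha).resolve_right hf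
    have hall : ∀ x : WithConv (A →ₐ[k] k), θ (ptAct (A := A) V x v) = 0 := fun x => by
      have := Groth.L01.LieKolchin.point_cf (A := A) x.ofConv θ v
      rw [show Groth.L08.cf θ v = a from rfl, ha0, map_zero] at this
      exact this.symm
    exact one_ne_zero (hθw₀.symm.trans (hall x₀))
  -- the action on the projective space
  haveI : Nontrivial V := ⟨⟨v, 0, hv⟩⟩
  obtain ⟨n, hn⟩ : ∃ n, Module.finrank k V = n + 1 :=
    Nat.exists_eq_succ_of_ne_zero (Module.finrank_pos (R := k) (M := V)).ne'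
  let bV : Module.Basis (Fin (n + 1)) k V := Module.finBasisOfFinrankEq k V hn
  obtain ⟨a₀, ha₀⟩ := exists_lineAction (A := A) bV
  let a := restrict a₀ ψ
  haveI : IsProper (PnOver k n).hom := Groth.L18.PS.isProper_toSpec n k
  have hex : ∀ w : V, w ≠ 0 → ∃ i, IsUnit (bV.repr w i) := fun w hw => by
    obtain ⟨i, hi⟩ : ∃ i, bV.repr w i ≠ 0 := by
      by_contra hc
      push Not at hc
      exact hw (bV.repr.injective (Finsupp.ext fun i => by simp [hc i]))
    exact ⟨i, isUnit_iff_ne_zero.2 hi⟩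
  have hne : ∀ x : WithConv (A →ₐ[k] k), ptAct (A := A) V x v ≠ 0 := fun x h =>
    hv (act_injective (A := A) x.ofConv (h.trans (map_zero _).symm))
  obtain ⟨i₀, hi₀⟩ := hex v hv
  let o : U1 ⟶ PnOver k n := vPt (fun m => bV.repr v m) i₀ hi₀
  -- the point of a vector
  have horb : ∀ (x : WithConv (A →ₐ[k] k)) (i : Fin (n + 1)) (hi : IsUnit (bV.repr (ptAct (A := A) V x v) i)),
      π x ≫ a.orbitMap o = vPt (fun m => bV.repr (ptAct (A := A) V x v) m) i hi := by
    intro x i hi
    rw [comp_orbitMap, toUnit_unique (toUnit U1) (𝟙 _), Category.id_comp, lift_restrict, hπ]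
    have e : bV.equivFun.symm (fun m => bV.repr v m) = v := bV.equivFun.symm_apply_apply v
    have h := ha₀ x.ofConv (fun m => bV.repr v m) i₀ hi₀ i (by rw [e]; exact hi)
    simp only [e] at h
    exact h
  have horb' : ∀ x : WithConv (A →ₐ[k] k), ∃ (i : Fin (n + 1)) (hi : IsUnit (bV.repr (ptAct (A := A) V x v) i)),
      π x ≫ a.orbitMap o = vPt (fun m => bV.repr (ptAct (A := A) V x v) m) i hi := fun x =>
    let ⟨i, hi⟩ := hex _ (hne x); ⟨i, hi, horb x i hi⟩
  have heq_orb : ∀ x y : WithConv (A →ₐ[k] k), π x ≫ a.orbitMap o = π y ≫ a.orbitMap o →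
      ∃ b : U1 ⟶ B, b ≫ iB = π (x⁻¹ * y) := by
    intro x y e
    obtain ⟨i, hi, hx⟩ := horb' x
    obtain ⟨i', hi', hy⟩ := horb' y
    rw [hx, hy] at e
    obtain ⟨c, hc⟩ := exists_smul_of_vPt_eq e
    refine (hstab _).2 ⟨(c : k), ?_⟩
    have hyx : ptAct (A := A) V y v = (c : k) • ptAct (A := A) V x v := bV.repr.injective (Finsupp.ext fun m => by
      rw [map_smul, Finsupp.smul_apply, smul_eq_mul]; exact hc m)
    rw [map_mul, Module.End.mul_apply, hyx, map_smul, ← Module.End.mul_apply, ← map_mul, inv_mul_cancel, map_one,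
      Module.End.one_apply]
  have hfix : ∀ b : U1 ⟶ B, lift (b ≫ iB) o ≫ a.act = o := by
    intro b
    obtain ⟨x, hx⟩ := π.surjective (b ≫ iB)
    obtain ⟨c, hc⟩ := (hstab x).1 ⟨b, hx.symm⟩
    obtain ⟨i, hi, hxo⟩ := horb' x
    rw [comp_orbitMap, toUnit_unique (toUnit U1) (𝟙 _), Category.id_comp, hx] at hxo
    rw [hxo]
    exact vPt_congr c (fun m => by rw [hc, map_smul, Finsupp.smul_apply, smul_eq_mul]) i₀ i hi₀ hi
  have hclosed : IsClosed (Set.range (a.orbitMap o).left) := isClosed_orbit_of_borel a o hB hfix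
  -- points of the orbit and hyperplanes
  let coef : WithConv (A →ₐ[k] k) → Fin (n + 1) → k := fun m l => θ (ptAct (A := A) V m (bV l))
  have hsum : ∀ (m : WithConv (A →ₐ[k] k)) (w : V), ∑ l, coef m l * bV.repr w l = θ (ptAct (A := A) V m w) := by
    intro m w
    conv_rhs => rw [← bV.sum_repr w, map_sum, map_sum]
    exact Finset.sum_congr rfl fun l _ => by rw [map_smul, map_smul, smul_eq_mul, mul_comm]
  have hmem : ∀ (x m : WithConv (A →ₐ[k] k)),
      ptOf (π x ≫ a.orbitMap o) ∈ nonzeroSet (coef m) ↔ θ (ptAct (A := A) V (m * x) v) ≠ 0 := by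
    intro x m
    obtain ⟨i, hi, hx⟩ := horb' x
    rw [hx, mem_nonzeroSet_iff, hsum, map_mul, Module.End.mul_apply]
  -- the normalizer
  let N : Set (U1 ⟶ G) := {m | ∃ τ : T ≅ T, τ.hom ≫ iT = AGF.conjBy m iT}
  have hcover : ∀ g : U1 ⟶ G, ∃ (m : U1 ⟶ G), m ∈ N ∧ θ (ptAct (A := A) V (π.symm (m⁻¹ * g)) v) ≠ 0 := by
    by_contra hc
    push Not at hc
    obtain ⟨g₀, hg₀⟩ := hc
    let Z : Set (PnOver k n).left := Set.range (a.orbitMap o).left ∩
      ⋂ m ∈ N, ((nonzeroSet (coef (π.symm m⁻¹)) : TopologicalSpace.Opens (PnOver k n).left) : Set _)ᶜ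
    have hZc : IsClosed Z :=
      hclosed.inter (isClosed_biInter fun m _ => (nonzeroSet _).isOpen.isClosed_compl)
    have hpt : ∀ z : U1 ⟶ PnOver k n, ptOf z ∈ Z ↔ ∃ x, π x ≫ a.orbitMap o = z ∧
        ∀ m ∈ N, θ (ptAct (A := A) V (π.symm (m⁻¹) * x) v) = 0 := by
      intro z
      constructor
      · rintro ⟨hz1, hz2⟩
        obtain ⟨g, hg⟩ := exists_pt_lift (a.orbitMap o) z hz1
        obtain ⟨x, rfl⟩ := π.surjective g
        refine ⟨x, hg, fun m hm => ?_⟩
        by_contra hne'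
        have := Set.mem_iInter₂.1 hz2 m hm
        exact this (hg ▸ (hmem x _).2 hne')
      · rintro ⟨x, rfl, hx⟩
        refine ⟨⟨_, rfl⟩, Set.mem_iInter₂.2 fun m hm => fun h' => ?_⟩
        exact (hmem x _).1 h' (hx m hm)
    have hne' : Z.Nonempty := by
      refine ⟨ptOf (g₀ ≫ a.orbitMap o), (hpt _).2 ⟨π.symm g₀, by rw [π.apply_symm_apply], fun m hm => ?_⟩⟩
      rw [← map_mul]; exact hg₀ m hm
    obtain ⟨hTaff, hTsm, hTcon, -, hcomm⟩ := torus_props hT.2.2.1
    haveI := hTaff; haveI := hTsm; haveI := hTcon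
    haveI : Group.IsSolvable (U1 ⟶ T) := Group.isSolvable_of_comm fun a b => hcomm _ a b
    obtain ⟨z, hzZ, hzfix⟩ := exists_fixedPt_in (restrict a iT) hZc hne' fun z s hz => by
      obtain ⟨x, rfl, hx⟩ := (hpt z).1 hz
      obtain ⟨y, hy⟩ := π.surjective (s ≫ iT)
      refine (hpt _).2 ⟨y * x, ?_, fun m hm => ?_⟩
      · rw [lift_restrict, comp_orbitMap, comp_orbitMap, toUnit_unique (toUnit U1) (𝟙 _), Category.id_comp, map_mul,
          Groth.L25.Actions.mul_act, hy]
      · obtain ⟨τ, hτ⟩ := id hm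
        let y' := π.symm m⁻¹ * y * (π.symm m⁻¹)⁻¹
        have hy' : π y' = ((s ≫ τ.inv) ≫ t') ≫ iB' := by
          have e : τ.inv ≫ iT = AGF.conjBy m⁻¹ iT := by
            rw [Iso.inv_comp_eq, comp_conjBy, hτ, conjBy_conjBy, inv_mul_cancel, conjBy_one]
          rw [Category.assoc, ht', Category.assoc, e, comp_conjBy]
          simp [y', AGF.conjBy, hy, toUnit_unique (toUnit U1) (𝟙 _)]
        rw [← _root_.mul_assoc, show π.symm m⁻¹ * y = y' * π.symm m⁻¹ by simp [y'], _root_.mul_assoc, map_mul,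
          Module.End.mul_apply, (heig' _ y' hy' _ (hW _)).2, hx m hm, mul_zero]
    obtain ⟨x, rfl, hx⟩ := (hpt z).1 hzZ
    -- the fixed point is a Borel subgroup containing the torus
    have hBc := isBorelOver_conjBy hB (π x)
    haveI := hBc.1; haveI := hBc.2.1
    haveI : IsReduced T.left := Groth.Agent.AV.isReduced_of_smooth_field T.hom
    obtain ⟨t₁, ht₁⟩ := exists_lift_of_points (AGF.conjBy (π x) iB) iT fun s => by
      obtain ⟨y, hy⟩ := π.surjective (s ≫ iT)
      have hf := hzfix U1 s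
      rw [lift_restrict, toUnit_unique (toUnit U1) (𝟙 _), Category.id_comp] at hf
      have e : π (y * x) ≫ a.orbitMap o = π x ≫ a.orbitMap o := by
        conv_lhs => rw [comp_orbitMap, toUnit_unique (toUnit U1) (𝟙 _), Category.id_comp, map_mul,
          Groth.L25.Actions.mul_act, hy]
        rw [comp_orbitMap, toUnit_unique (toUnit U1) (𝟙 _), Category.id_comp] at hf ⊢
        exact hf
      obtain ⟨b, hb⟩ := heq_orb x (y * x) e.symm
      refine ⟨b, ?_⟩
      rw [comp_conjBy, hb]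
      simp [AGF.conjBy, hy, toUnit_unique (toUnit U1) (𝟙 _), _root_.mul_assoc]
    obtain ⟨m, τ, σ, hτ, hσ⟩ := exists_normalizing hT hB hBc t ht t₁ ht₁
    have hnorm : AGF.conjBy ((π x)⁻¹ * m) iB = σ.hom ≫ iB := by
      rw [← conjBy_conjBy, ← hσ, ← comp_conjBy, conjBy_conjBy, inv_mul_cancel, conjBy_one]
    obtain ⟨b, hb⟩ := mem_of_conj_borel iB hB (𝟙 B) (Category.id_comp iB) U1 ((π x)⁻¹ * m)⁻¹ fun X y h => by
      refine ⟨h ≫ σ.hom, ?_⟩
      rw [toUnit_unique y (toUnit X), Category.assoc, ← hnorm, comp_conjBy]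
      simp [AGF.conjBy, MonObj.comp_mul, GrpObj.comp_inv, _root_.mul_assoc]
    have hz0 := hx m ⟨τ, hτ⟩
    obtain ⟨c, hc⟩ := (hstab (π.symm m⁻¹ * x)).1 ⟨b, by simp [hb]⟩
    rw [hc, map_smul, smul_eq_mul] at hz0
    have hc0 : c ≠ 0 := fun h0 => hne (π.symm m⁻¹ * x) (by rw [hc, h0, zero_smul])
    exact mul_ne_zero hc0 hθv hz0
  -- invariance under the subgroup
  have hinv : ∀ m ∈ N, ∀ (h' : U1 ⟶ H) (y : WithConv (A →ₐ[k] k)), π y = m⁻¹ * (h' ≫ j) * m → ∀ w ∈ W,
      θ (ptAct (A := A) V y w) = θ w := by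
    rintro m ⟨τ, hτ⟩ h' y hy w hw
    haveI := hT.1
    have hB'c := isBorelOver_conjBy hB' m
    haveI : Mono (AGF.conjBy m iB') := mono_conjBy m iB'
    haveI := hB'c.1
    obtain ⟨f, hf⟩ := hH B' (AGF.conjBy m iB') (τ.inv ≫ t') hB'c (by
      rw [Category.assoc, comp_conjBy, ht', ← hτ, Iso.inv_hom_id_assoc])
    haveI : IsMonHom f := isMonHom_of_comp_mono f (AGF.conjBy m iB') j hf
    haveI : Mono j := Groth.L08.mono_of_closedImmersion j
    haveI : Mono f := by
      haveI : Mono (f ≫ AGF.conjBy m iB') := hf ▸ inferInstance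
      exact mono_of_mono f (AGF.conjBy m iB')
    have hfB : ∀ h'' : U1 ⟶ H, (h'' ≫ f) ≫ iB' = m⁻¹ * (h'' ≫ j) * m := by
      intro h''
      rw [show h'' ≫ j = (h'' ≫ f) ≫ AGF.conjBy m iB' by rw [Category.assoc, hf], comp_conjBy]
      simp [AGF.conjBy, toUnit_unique (toUnit U1) (𝟙 _), _root_.mul_assoc]
    have hy' : π y = (h' ≫ f) ≫ iB' := by rw [hfB, hy]
    rw [(heig' _ y hy' w hw).2]
    suffices θ (ptAct (A := A) V y w₀) = 1 by rw [this, _root_.one_mul]
    have h1 : ∀ x : A →ₐ[k] k, x (Groth.L08.cf θ w₀) = θ (ptAct (A := A) V (toConv x) w₀) :=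
      fun x => Groth.L01.LieKolchin.point_cf x θ w₀
    have key := eq_one_of_noSubtorus (isSolvableGrp_of_mono f hB'.2.2.2.2.1) hHns (f ≫ iB' ≫ ψ)
      (Groth.L08.cf θ w₀) (fun h'' x hx h0 => ?_) (fun x hx => ?_) h' y.ofConv (by
        rw [← hπ, hy']; simp only [Category.assoc])
    · rwa [h1] at key
    · rw [h1] at h0
      have hxb : π (toConv x) = (h'' ≫ f) ≫ iB' := by
        rw [← cancel_mono ψ, hπ]; simpa only [Category.assoc] using hx
      have hxb' : π (toConv x)⁻¹ = ((h'' ≫ f)⁻¹) ≫ iB' := by rw [map_inv, hxb, GrpObj.inv_comp]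
      obtain ⟨hw', -⟩ := heig' _ _ hxb' w₀ hw₀
      have h2 := (heig' _ _ hxb _ hw').2
      rw [← Module.End.mul_apply, ← map_mul, mul_inv_cancel, map_one, Module.End.one_apply, hθw₀, h0,
        zero_mul] at h2
      exact one_ne_zero h2
    · rw [h1]
      have e : toConv x = (1 : WithConv (A →ₐ[k] k)) := π.injective (by
        rw [← cancel_mono ψ, hπ, map_one, show gPt (toConv x).ofConv = gPt x from rfl, hx, MonObj.one_comp,
          MonObj.one_comp])
      rw [e, map_one, Module.End.one_apply, hθw₀]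
  -- the orbit of the subgroup
  intro g
  obtain ⟨x, rfl⟩ := π.surjective g
  let ω : H ⟶ PnOver k n := (j * (toUnit H ≫ π x)) ≫ a.orbitMap o
  have hω : ∀ h' : U1 ⟶ H, h' ≫ ω = π (π.symm (h' ≫ j) * x) ≫ a.orbitMap o := by
    intro h'
    rw [map_mul, π.apply_symm_apply, ← Category.assoc, MonObj.comp_mul, ← Category.assoc h' (toUnit H),
      toUnit_unique (h' ≫ toUnit H) (𝟙 _), Category.id_comp]
  obtain ⟨m, hm, hmx⟩ := hcover (π x)
  -- values along the orbit
  have hconst : ∀ (m' : U1 ⟶ G), m' ∈ N → ∀ h' : U1 ⟶ H,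
      θ (ptAct (A := A) V (π.symm m'⁻¹ * (π.symm (h' ≫ j) * x)) v) =
        θ (ptAct (A := A) V (π.symm m'⁻¹ * x) v) := by
    intro m' hm' h'
    let y := π.symm m'⁻¹ * π.symm (h' ≫ j) * (π.symm m'⁻¹)⁻¹
    rw [show π.symm m'⁻¹ * (π.symm (h' ≫ j) * x) = y * (π.symm m'⁻¹ * x) by simp [y, _root_.mul_assoc],
      map_mul, Module.End.mul_apply]
    exact hinv m' hm' h' y (by simp [y]) _ (hW _)
  have havoid : closure (Set.range ω.left) ⊆ (nonzeroSet (coef (π.symm m⁻¹)) : Set _) := by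
    intro z hz
    by_contra hzn
    have hclZ : IsClosed (closure (Set.range ω.left) \ (nonzeroSet (coef (π.symm m⁻¹)) : Set _)) :=
      isClosed_closure.sdiff (nonzeroSet _).isOpen
    haveI : JacobsonSpace (PnOver k n).left := LocallyOfFiniteType.jacobsonSpace (PnOver k n).hom
    obtain ⟨q, hq, hqn⟩ := exists_pt_mem (X := PnOver k n) hclZ.isLocallyClosed ⟨z, hz, hzn⟩
    have hq' : ptOf q ∈ Set.range (a.orbitMap o).left := closure_minimal (by
      rintro _ ⟨p, rfl⟩
      exact ⟨(j * (toUnit H ≫ π x)).left p, rfl⟩) hclosed hq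
    obtain ⟨g', hg'⟩ := exists_pt_lift (a.orbitMap o) q hq'
    obtain ⟨x', rfl⟩ := π.surjective g'
    subst hg'
    obtain ⟨m', hm', hm'x⟩ := hcover (π x')
    rw [map_mul, π.symm_apply_apply] at hm'x hmx
    let r := θ (ptAct (A := A) V (π.symm m⁻¹ * x) v)
    let r' := θ (ptAct (A := A) V (π.symm m'⁻¹ * x) v)
    haveI : JacobsonSpace H.left := LocallyOfFiniteType.jacobsonSpace H.hom
    obtain ⟨_, hqm, p, rfl⟩ := mem_closure_iff.1 hq _ (nonzeroSet (coef (π.symm m'⁻¹))).isOpen ((hmem x' _).2 hm'x)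
    obtain ⟨h', hh'⟩ := exists_pt_mem (X := H)
      (((nonzeroSet (coef (π.symm m'⁻¹))).isOpen.preimage ω.left.continuous).isLocallyClosed) ⟨p, hqm⟩
    have hr' : r' ≠ 0 := by
      have h2 : ptOf (h' ≫ ω) ∈ nonzeroSet (coef (π.symm m'⁻¹)) := hh'
      rw [hω, hmem, hconst m' hm'] at h2
      exact h2
    let c : Fin (n + 1) → k := fun l => r' * coef (π.symm m⁻¹) l - r * coef (π.symm m'⁻¹) l
    have hc : ∀ x'' : WithConv (A →ₐ[k] k), ptOf (π x'' ≫ a.orbitMap o) ∈ nonzeroSet c ↔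
        r' * θ (ptAct (A := A) V (π.symm m⁻¹ * x'') v) - r * θ (ptAct (A := A) V (π.symm m'⁻¹ * x'') v) ≠ 0 := by
      intro x''
      obtain ⟨i, hi, hx''⟩ := horb' x''
      rw [hx'', mem_nonzeroSet_iff]
      simp only [c, sub_mul, _root_.mul_assoc, Finset.sum_sub_distrib, ← Finset.mul_sum, hsum]
      rw [map_mul, Module.End.mul_apply, map_mul, Module.End.mul_apply]
    have hnot : ptOf (π x' ≫ a.orbitMap o) ∉ nonzeroSet c := by
      intro hin
      obtain ⟨_, hqc, p', rfl⟩ := mem_closure_iff.1 hq _ (nonzeroSet c).isOpen hin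
      obtain ⟨h'', hh''⟩ := exists_pt_mem (X := H)
        (((nonzeroSet c).isOpen.preimage ω.left.continuous).isLocallyClosed) ⟨p', hqc⟩
      have h2 : ptOf (h'' ≫ ω) ∈ nonzeroSet c := hh''
      rw [hω, hc, hconst m hm, hconst m' hm', mul_comm, sub_self] at h2
      exact h2 rfl
    have hzero : θ (ptAct (A := A) V (π.symm m⁻¹ * x') v) = 0 := by
      by_contra hne''
      exact hqn ((hmem x' _).2 hne'')
    rw [hc, not_not, hzero, mul_zero, zero_sub, neg_eq_zero] at hnot
    exact mul_ne_zero hmx hm'x hnot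
  have hh := eq_of_avoid ω (coef (π.symm m⁻¹)) havoid (1 : U1 ⟶ H) h
  rw [hω, hω, MonObj.one_comp, map_one, _root_.one_mul] at hh
  obtain ⟨b, hb⟩ := heq_orb x _ hh
  exact ⟨b, by rw [hb]; simp [_root_.mul_assoc]⟩

end Groth.L14.Luna
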