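import Groth.Agent.L14.Luna.ProjLine
import Groth.Agent.L14.Luna.Orbits
import Groth.Agent.L06.GenericFibreDim
import Groth.Agent.L03.Euler.Dim
import Groth.Agent.L16.ProjSpace.Charts

/-!
# Fixed points of a torus in a stable closed subset of projective space
-/

set_option autoImplicit false
set_option backward.isDefEq.respectTransparency.types false
set_option linter.style.haveILetI false
set_option linter.unusedSectionVars false
set_option maxHeartbeats 1000000

universe u

open CategoryTheory CategoryTheory.Limits MonoidalCategory CartesianMonoidalCategory MonObj GrpObj AlgebraicGeometry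
open TopologicalSpace CohB1
open Groth.L08.Borel

noncomputable section

namespace Groth.L14.Luna

variable {k : Type u} [Field k] [IsAlgClosed k] {n : ℕ}

local notation "U1" => 𝟙_ (Over (Spec (CommRingCat.of k)))

/-- The coordinate hyperplane complement. -/
abbrev coordSet (l : Fin (n + 1)) : (PnOver k n).left.Opens :=
  Proj.basicOpen (polyGrading n k) (MvPolynomial.X l)

theorem exists_coordSet (x : (PnOver k n).left) : ∃ l : Fin (n + 1), x ∈ coordSet l :=
  Groth.L16.ProjSpace.exists_mem_basicOpen_X n k x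

theorem coord_mem_iff (x : Fin (n + 1) → k) (j : Fin (n + 1)) (hj : IsUnit (x j)) (l : Fin (n + 1)) :
    ptOf (vPt x j hj) ∈ coordSet l ↔ x l ≠ 0 := by
  classical
  have hlin : linForm (k := k) (Pi.single l 1) = MvPolynomial.X l := by
    unfold linForm
    rw [Finset.sum_eq_single l] <;> simp +contextual
  have h := mem_nonzeroSet_iff (Pi.single l 1) x j hj
  rw [nonzeroSet, hlin] at h
  rw [h, Finset.sum_eq_single l] <;> simp +contextual

theorem isNoetherian_PnOver : NoetherianSpace (PnOver k n).left := by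
  haveI : IsProper (PnOver k n).hom := Groth.L18.PS.isProper_toSpec n k
  haveI : CompactSpace (PnOver k n).left := QuasiCompact.compactSpace_of_compactSpace (PnOver k n).hom
  haveI : IsLocallyNoetherian (PnOver k n).left := LocallyOfFiniteType.isLocallyNoetherian (PnOver k n).hom
  haveI : IsNoetherian (PnOver k n).left := {}
  infer_instance

/-- A closed irreducible subset avoiding a coordinate hyperplane is a point. -/
theorem dim_le_zero_of_subset_coordSet {Z : Set (PnOver k n).left} (hc : IsClosed Z) (hi : IsIrreducible Z)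
    (l : Fin (n + 1)) (h : Z ⊆ (coordSet (k := k) l : Set (PnOver k n).left)) : topologicalKrullDim Z ≤ 0 := by
  classical
  haveI := isNoetherian_PnOver (k := k) (n := n)
  haveI : IsProper (PnOver k n).hom := Groth.L18.PS.isProper_toSpec n k
  let I := Scheme.IdealSheafData.vanishingIdeal (X := (PnOver k n).left) ⟨Z, hc⟩
  let H : Over (Spec (CommRingCat.of k)) := Over.mk (I.subschemeι ≫ (PnOver k n).hom)
  let ω : H ⟶ PnOver k n := Over.homMk I.subschemeι rfl
  have hr : Set.range ω.left = Z := by
    show Set.range I.subschemeι = _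
    rw [Scheme.IdealSheafData.range_subschemeι, Scheme.IdealSheafData.coe_support_vanishingIdeal]; rfl
  haveI : ConnectedSpace H.left := by
    haveI : ConnectedSpace Z := isConnected_iff_connectedSpace.1 hi.isConnected
    let e := ((show IsClosedImmersion ω.left from inferInstanceAs (IsClosedImmersion I.subschemeι)).isClosedEmbedding.isEmbedding.toHomeomorph.trans (Homeomorph.setCongr hr))
    exact e.symm.surjective.connectedSpace e.symm.continuous
  haveI : QuasiCompact H.hom := inferInstanceAs (QuasiCompact (I.subschemeι ≫ (PnOver k n).hom))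
  have hlin : linForm (k := k) (Pi.single l 1) = MvPolynomial.X l := by
    unfold linForm
    rw [Finset.sum_eq_single l] <;> simp +contextual
  have hsub : closure (Set.range ω.left) ⊆ (nonzeroSet (k := k) (Pi.single l 1) : Set _) := by
    rw [hr, hc.closure_eq, nonzeroSet, hlin]; exact h
  obtain ⟨z, hz⟩ := exists_pt_mem (X := PnOver k n) hc.isLocallyClosed hi.nonempty
  have hZ : Z ⊆ {ptOf z} := by
    intro y hy
    by_contra hne
    obtain ⟨w, hw⟩ := exists_pt_mem (X := PnOver k n) (O := Z \ {ptOf z})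
      (hc.isLocallyClosed.inter (isClosed_pt z).isOpen_compl.isLocallyClosed) ⟨y, hy, hne⟩
    haveI : LocallyOfFiniteType H.hom := inferInstanceAs (LocallyOfFiniteType (I.subschemeι ≫ (PnOver k n).hom))
    obtain ⟨s, rfl⟩ := exists_pt_lift ω w (hr ▸ hw.1)
    obtain ⟨t, rfl⟩ := exists_pt_lift ω z (hr ▸ hz)
    exact hw.2 (congrArg ptOf (eq_of_avoid ω (Pi.single l 1) hsub s t))
  refine (Groth.L03.Euler.topologicalKrullDim_set_mono hZ).trans ?_
  haveI : Subsingleton ({ptOf z} : Set (PnOver k n).left) := ⟨fun a b => Subtype.ext (a.2.trans b.2.symm)⟩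
  haveI : Subsingleton (IrreducibleCloseds ({ptOf z} : Set (PnOver k n).left)) := ⟨fun a b => by
    apply SetLike.coe_injective
    ext x
    exact ⟨fun _ => let ⟨y, hy⟩ := b.isIrreducible.nonempty; Subsingleton.elim y x ▸ hy,
      fun _ => let ⟨y, hy⟩ := a.isIrreducible.nonempty; Subsingleton.elim y x ▸ hy⟩⟩
  exact Order.krullDim_nonpos_of_subsingleton

/-- A hyperplane section of an irreducible closed set has codimension at most one. -/
theorem dim_le_inter_add_one {Z : Set (PnOver k n).left} (hc : IsClosed Z) (hi : IsIrreducible Z) (l m : Fin (n + 1))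
    {z : (PnOver k n).left} (hzZ : z ∈ Z) (hzl : z ∉ coordSet l) (hzm : z ∈ coordSet m) :
    topologicalKrullDim Z ≤ topologicalKrullDim ↥(Z ∩ (coordSet (k := k) l : Set (PnOver k n).left)ᶜ) + 1 := by
  classical
  haveI : IsProper (PnOver k n).hom := Groth.L18.PS.isProper_toSpec n k
  let I := Scheme.IdealSheafData.vanishingIdeal (X := (PnOver k n).left) ⟨Z, hc⟩
  have hr : Set.range I.subschemeι = Z := by
    rw [Scheme.IdealSheafData.range_subschemeι, Scheme.IdealSheafData.coe_support_vanishingIdeal]; rfl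
  haveI : IsClosedImmersion I.subschemeι := inferInstance
  let eZ : I.subscheme ≃ₜ Z := I.subschemeι.isClosedEmbedding.isEmbedding.toHomeomorph.trans (Homeomorph.setCongr hr)
  haveI : IrreducibleSpace I.subscheme := by
    haveI : PreirreducibleSpace Z := Subtype.preirreducibleSpace hi.isPreirreducible
    haveI : IrreducibleSpace Z := { toNonempty := hi.nonempty.to_subtype }
    exact eZ.symm.surjective.irreducibleSpace eZ.symm.continuous
  letI : I.subscheme.Over (Spec (CommRingCat.of k)) := ⟨I.subschemeι ≫ (PnOver k n).hom⟩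
  haveI : LocallyOfFiniteType (I.subscheme ↘ Spec (CommRingCat.of k)) :=
    inferInstanceAs (LocallyOfFiniteType (I.subschemeι ≫ (PnOver k n).hom))
  obtain ⟨d, hd, -, hdU⟩ := Groth.L22.SchemeDim.exists_dim_eq_trdeg k I.subscheme
  -- the affine chart
  have hXdeg : ∀ i : Fin (n + 1), (MvPolynomial.X i : MvPolynomial (Fin (n + 1)) k) ∈ polyGrading n k 1 := fun i =>
    MvPolynomial.isHomogeneous_X k i
  let c : Spec (CommRingCat.of (HomogeneousLocalization.Away (polyGrading n k) (MvPolynomial.X m))) ⟶ (PnOver k n).left :=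
    Proj.awayι (polyGrading n k) (MvPolynomial.X m) (hXdeg m) one_pos
  haveI : IsOpenImmersion c := inferInstanceAs (IsOpenImmersion (Proj.awayι _ _ _ _))
  let W := pullback I.subschemeι c
  let p : W ⟶ I.subscheme := pullback.fst _ _
  let q : W ⟶ _ := pullback.snd I.subschemeι c
  have hrp : Set.range p = I.subschemeι ⁻¹' (coordSet (k := k) m : Set (PnOver k n).left) := by
    rw [Scheme.Pullback.range_fst]
    congr 1
    rw [← Scheme.Hom.coe_opensRange, show c.opensRange = coordSet m from
      Proj.opensRange_awayι (polyGrading n k) (MvPolynomial.X m) (hXdeg m) one_pos]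
  obtain ⟨z', hz'⟩ : ∃ z', I.subschemeι z' = z := by rw [← Set.mem_range, hr]; exact hzZ
  haveI : Nonempty W := by
    obtain ⟨w, -⟩ : z' ∈ Set.range p := by rw [hrp]; rw [Set.mem_preimage, hz']; exact hzm
    exact ⟨w⟩
  haveI : IrreducibleSpace W := by
    haveI := p.isOpenEmbedding.preirreducibleSpace
    exact { toNonempty := ‹_› }
  let s : Γ(W, ⊤) := q.appTop.hom ((Scheme.ΓSpecIso _).inv.hom
    (HomogeneousLocalization.Away.isLocalizationElem (hXdeg m) (hXdeg l)))
  have hzero : W.zeroLocus (U := ⊤) {s} = (p ≫ I.subschemeι) ⁻¹' (coordSet (k := k) l : Set (PnOver k n).left)ᶜ := by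
    rw [Scheme.zeroLocus_singleton]
    have e : W.basicOpen s = (p ≫ I.subschemeι) ⁻¹ᵁ coordSet l := by
      rw [show p ≫ I.subschemeι = q ≫ c from pullback.condition, Scheme.Hom.comp_preimage,
        show c ⁻¹ᵁ coordSet l = _ from Proj.awayι_preimage_basicOpen (polyGrading n k) (hXdeg m) one_pos (hXdeg l)
          one_pos, ← Scheme.preimage_basicOpen_top q]
      congr 1
      exact basicOpen_eq_of_affine _
    rw [e]; rfl
  obtain ⟨w, hw⟩ : z' ∈ Set.range p := by rw [hrp]; rw [Set.mem_preimage, hz']; exact hzm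
  have hne : (W.zeroLocus (U := ⊤) {s}).Nonempty := ⟨w, by
    rw [hzero]; show (p ≫ I.subschemeι) w ∉ _; rw [Scheme.Hom.comp_apply, hw, hz']; exact hzl⟩
  haveI : LocallyOfFiniteType (p ≫ (I.subscheme ↘ Spec (CommRingCat.of k))) := inferInstance
  have h1 := Groth.L06.GenericFibreDim.dim_le_zeroLocus_add_one k (p ≫ (I.subscheme ↘ Spec (CommRingCat.of k))) s hne
  have h2 : topologicalKrullDim W = topologicalKrullDim Z := by
    rw [← eZ.isHomeomorph.topologicalKrullDim_eq, hd, ← hdU p.opensRange (Set.range_nonempty p)]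
    exact (p.isOpenEmbedding.isEmbedding.toHomeomorph.isHomeomorph.topologicalKrullDim_eq)
  have h3 : topologicalKrullDim ↥(W.zeroLocus (U := ⊤) {s}) ≤ topologicalKrullDim ↥(Z ∩ (coordSet (k := k) l : Set (PnOver k n).left)ᶜ) := by
    let f : ↥(W.zeroLocus (U := ⊤) {s}) → ↥(Z ∩ (coordSet (k := k) l : Set (PnOver k n).left)ᶜ) := fun x =>
      ⟨(p ≫ I.subschemeι) x.1, hr.le ⟨p x.1, rfl⟩, hzero.le x.2⟩
    have hf : Topology.IsInducing f :=
      Topology.IsInducing.of_comp
        (Continuous.subtype_mk ((p ≫ I.subschemeι).continuous.comp continuous_subtype_val) _) continuous_subtype_val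
        (((p ≫ I.subschemeι).isEmbedding.isInducing).comp Topology.IsInducing.subtypeVal)
    exact hf.topologicalKrullDim_le
  rw [← h2]
  exact h1.trans (add_le_add h3 le_rfl)

variable {T : Over (Spec (CommRingCat.of k))} [GrpObj T] [IsAffine T.left] [Smooth T.hom] [ConnectedSpace T.left]

/-- **A torus stable closed set of dimension at least `d` in projective space contains at least `d + 1` fixed points.** -/
theorem exists_fixed_card [Group.IsSolvable (U1 ⟶ T)] (a : AlgGrp.Action T (PnOver k n))
    (hst : ∀ (l : Fin (n + 1)) (x : U1 ⟶ PnOver k n) (g : U1 ⟶ T),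
      ptOf x ∉ coordSet l → ptOf (lift g x ≫ a.act) ∉ coordSet l) :
    ∀ (d : ℕ) (Z : Closeds (PnOver k n).left),
      (∀ (x : U1 ⟶ PnOver k n) (g : U1 ⟶ T), ptOf x ∈ Z → ptOf (lift g x ≫ a.act) ∈ Z) →
      (d : WithBot ℕ∞) ≤ topologicalKrullDim (Z : Set (PnOver k n).left) →
      ∃ s : Finset (U1 ⟶ PnOver k n), (∀ x ∈ s, a.IsFixedPt x ∧ ptOf x ∈ Z) ∧ d + 1 ≤ s.card := by
  classical
  haveI := isNoetherian_PnOver (k := k) (n := n)
  haveI : IsProper (PnOver k n).hom := Groth.L18.PS.isProper_toSpec n k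
  intro d
  induction d with
  | zero =>
    intro Z hZ hd
    have hne : (Z : Set (PnOver k n).left).Nonempty := by
      by_contra he
      rw [Set.not_nonempty_iff_eq_empty] at he
      rw [Groth.L03.Euler.topologicalKrullDim_of_empty he] at hd
      simp at hd
    obtain ⟨x, hx, hf⟩ := exists_fixedPt_in a Z.isClosed hne hZ
    exact ⟨{x}, fun y hy => by rw [Finset.mem_singleton] at hy; exact hy ▸ ⟨hf, hx⟩, by simp⟩
  | succ d ih =>
    intro Z
    refine WellFoundedLT.induction (α := Closeds (PnOver k n).left) (motive := fun Z =>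
      (∀ (x : U1 ⟶ PnOver k n) (g : U1 ⟶ T), ptOf x ∈ Z → ptOf (lift g x ≫ a.act) ∈ Z) →
      ((d + 1 : ℕ) : WithBot ℕ∞) ≤ topologicalKrullDim (Z : Set (PnOver k n).left) →
      ∃ s : Finset (U1 ⟶ PnOver k n), (∀ x ∈ s, a.IsFixedPt x ∧ ptOf x ∈ Z) ∧ d + 1 + 1 ≤ s.card) Z
      fun Z ihZ => ?_
    intro hZ hd
    obtain ⟨y, hyZ, hy⟩ := Groth.L03.Euler.exists_point_dim_closure_ge Z.isClosed hd
    have hY : closure ({y} : Set (PnOver k n).left) ⊆ Z :=
      closure_minimal (Set.singleton_subset_iff.2 hyZ) Z.isClosed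
    obtain ⟨q, hq, hqf⟩ := exists_fixedPt_in a Z.isClosed ⟨y, hyZ⟩ hZ
    obtain ⟨l, hl⟩ := exists_coordSet (ptOf q)
    let Z' : Closeds (PnOver k n).left :=
      ⟨(Z : Set (PnOver k n).left) ∩ (coordSet (k := k) l : Set (PnOver k n).left)ᶜ, Z.isClosed.inter (coordSet l).isOpen.isClosed_compl⟩
    have hZ' : ∀ (x : U1 ⟶ PnOver k n) (g : U1 ⟶ T), ptOf x ∈ Z' → ptOf (lift g x ≫ a.act) ∈ Z' :=
      fun x g hx => ⟨hZ x g hx.1, hst l x g hx.2⟩
    have hlt : Z' < Z := lt_of_le_not_ge (fun p hp => hp.1) fun hge => (hge hq).2 hl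
    by_cases hd' : ((d + 1 : ℕ) : WithBot ℕ∞) ≤ topologicalKrullDim (Z' : Set (PnOver k n).left)
    · obtain ⟨s, hs, hc⟩ := ihZ Z' hlt hZ' hd'
      exact ⟨s, fun x hx => ⟨(hs x hx).1, (hs x hx).2.1⟩, hc⟩
    have hne : ¬ closure ({y} : Set (PnOver k n).left) ⊆ (coordSet (k := k) l : Set (PnOver k n).left)ᶜ := fun h =>
      hd' (hy.trans (Groth.L03.Euler.topologicalKrullDim_set_mono fun p hp => ⟨hY hp, h hp⟩))
    obtain ⟨z, hzY, hzl⟩ : ∃ z ∈ closure ({y} : Set (PnOver k n).left), z ∉ coordSet l := by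
      by_contra h
      push Not at h
      have h0 := hy.trans (dim_le_zero_of_subset_coordSet isClosed_closure isIrreducible_singleton.closure l h)
      exact absurd (show (d + 1 : ℕ) ≤ 0 by exact_mod_cast h0) (by omega)
    obtain ⟨m, hzm⟩ := exists_coordSet z
    have h1 := dim_le_inter_add_one isClosed_closure isIrreducible_singleton.closure l m hzY hzl hzm
    have h2 : topologicalKrullDim ↥(closure ({y} : Set (PnOver k n).left) ∩ (coordSet (k := k) l : Set (PnOver k n).left)ᶜ) ≤
        topologicalKrullDim (Z' : Set (PnOver k n).left) :=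
      Groth.L03.Euler.topologicalKrullDim_set_mono fun p hp => ⟨hY hp.1, hp.2⟩
    have hd'' : (d : WithBot ℕ∞) ≤ topologicalKrullDim (Z' : Set (PnOver k n).left) := by
      have h3 : ((d + 1 : ℕ) : WithBot ℕ∞) ≤ topologicalKrullDim (Z' : Set (PnOver k n).left) + 1 :=
        hy.trans (h1.trans (add_le_add h2 le_rfl))
      generalize topologicalKrullDim (Z' : Set (PnOver k n).left) = w at h3
      induction w using WithBot.recBotCoe with
      | bot => simp at h3
      | coe w =>
        induction w using ENat.recTopCoe with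
        | top => exact WithBot.coe_le_coe.2 le_top
        | coe w => norm_cast at h3 ⊢; omega
    obtain ⟨s, hs, hc⟩ := ih Z' hZ' hd''
    have hqs : q ∉ s := fun h => (hs q h).2.2 hl
    refine ⟨insert q s, fun x hx => ?_, by rw [Finset.card_insert_of_notMem hqs]; omega⟩
    rcases Finset.mem_insert.1 hx with rfl | hx
    · exact ⟨hqf, hq⟩
    · exact ⟨(hs x hx).1, (hs x hx).2.1⟩

end Groth.L14.Luna
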