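import Groth.Agent.L14.Luna.ProjFixed
import Groth.Agent.L14.Luna.DimInj
import Groth.Agent.L14.Luna.Core
import Groth.Agent.L08.Pullback
import Groth.Agent.L08.Diag
import Groth.Agent.L08.Borel.TorusImage
import Groth.Prelude.Def_ChGrp

/-!
# Fixed points of a torus on a proper homogeneous space
-/

set_option autoImplicit false
set_option backward.isDefEq.respectTransparency.types false
set_option linter.style.haveILetI false
set_option linter.unusedSectionVars false
set_option maxHeartbeats 1000000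

universe u

open CategoryTheory CategoryTheory.Limits MonoidalCategory CartesianMonoidalCategory MonObj GrpObj AlgebraicGeometry
open scoped TensorProduct
open WithConv
open Groth.L25.Bridge (P)
open Groth.L08 (ptAct push fAct fAct_push fAct_apply)
open Groth.L08.HomSpace (specOf exists_hopfIdeal)
open Groth.L08.TorusQuot (sp exists_sp)
open Groth.L08.Borel

noncomputable section

namespace Groth.L14.Luna

variable {k : Type u} [Field k] [IsAlgClosed k]

local notation "U1" => 𝟙_ (Over (Spec (CommRingCat.of k)))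

/-- A representation of a torus has a basis of eigenvectors. -/
theorem exists_eigenbasis {A : Type u} [CommRing A] [HopfAlgebra k A] [Algebra.FiniteType k A] {V : Type u} [AddCommGroup V] [Module k V]
    [HopfRep.Comod k A V] [Module.Finite k V] {T : Over (Spec (CommRingCat.of k))} [GrpObj T] (hT : Red.IsTorus T)
    (f : T ⟶ specOf k A) [IsMonHom f] :
    ∃ b : Module.Basis (Fin (Module.finrank k V)) k V, ∀ (t : U1 ⟶ T) (x : A →ₐ[k] k), gPt x = t ≫ f →
      ∀ i, ∃ c : k, ptAct (A := A) V (toConv x) (b i) = c • b i := by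
  classical
  obtain ⟨r, ⟨e⟩⟩ := exists_laurent_of_torus hT
  let B := MonoidAlgebra k (Multiplicative (Fin r → ℤ))
  let e₁ : P k B ⟶ T := e.inv.hom.hom
  haveI : IsMonHom e₁ := e.inv.hom.isMonHom_hom
  obtain ⟨c, hc⟩ := exists_sp (B := A) (e₁ ≫ f)
  letI cB : HopfRep.Comod k B V := push (c : A →ₗc[k] B) inferInstance
  have hdiag : HopfRep.IsDiagonalizable k B := isDiagonalizable_of_injective (BialgHom.id k B) fun _ _ h => h
  have hspan := Groth.L08.span_eigenvectors_eq_top (V := V) hdiag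
  obtain ⟨s, hs, hspan', hli⟩ := exists_linearIndependent k {v : V | ∃ a : B, IsGroupLikeElem k a ∧
      HopfRep.Comod.coact (k := k) (A := B) v = v ⊗ₜ[k] a}
  let b₀ := Module.Basis.mk hli (by rw [Subtype.range_coe_subtype, Set.ofPred_mem_eq, hspan', hspan])
  haveI : Fintype s := FiniteDimensional.fintypeBasisIndex b₀
  let σ : s ≃ Fin (Module.finrank k V) :=
    (Fintype.equivFin s).trans (finCongr (Module.finrank_eq_card_basis b₀).symm)
  refine ⟨b₀.reindex σ, fun t x hx i => ?_⟩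
  obtain ⟨a, -, ha⟩ := hs (σ.symm i).2
  have hb : (b₀.reindex σ) i = (σ.symm i : V) := by simp [b₀]
  obtain ⟨y, hy⟩ := exists_gPt (A := B) (t ≫ e.hom.hom.hom)
  have hxy : x = y.comp (c : A →ₐ[k] B) := gPt_injective (by
    rw [hx, ← gPt_comp, hy, hc, Category.assoc, ← Category.assoc (e.hom.hom.hom : T ⟶ P k B),
      show (e.hom.hom.hom : T ⟶ P k B) ≫ e₁ = 𝟙 T from congrArg (fun z => z.hom.hom) e.hom_inv_id,
      Category.id_comp])
  refine ⟨y a, ?_⟩
  rw [hb, hxy]
  show HopfRep.Comod.act k A V (y.comp (c : A →ₐ[k] B)) (σ.symm i : V) = y a • (σ.symm i : V)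
  rw [Groth.L08.act_eq_fAct]
  have h := congrArg (fun φ : V →ₗ[k] V => φ (σ.symm i : V))
    (fAct_push (c : A →ₗc[k] B) (inferInstance : HopfRep.Comod k A V) y.toLinearMap)
  refine h.symm.trans ?_
  rw [fAct_apply]
  refine (congrArg (fun z => TensorProduct.rid k V (y.toLinearMap.lTensor V z)) ha).trans ?_
  simp

/-- **A torus fixes at least `dim + 1` points of a proper homogeneous space.** -/
theorem exists_fixed_quotient {G Q T X : Over (Spec (CommRingCat.of k))} [GrpObj G] [GrpObj Q] [GrpObj T]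
    [IsAffine G.left] [Smooth G.hom] [ConnectedSpace G.left] (iQ : Q ⟶ G) [IsMonHom iQ] [IsClosedImmersion iQ.left]
    {a : AlgGrp.Action G X} {o : U1 ⟶ X} (hX : AGF.IsQuotient iQ X a o) [IsProper X.hom]
    (iT : T ⟶ G) [IsMonHom iT] (hT : Red.IsTorus T) {d : ℕ} (hd : (d : WithBot ℕ∞) ≤ topologicalKrullDim X.left) :
    ∃ s : Finset (U1 ⟶ X), (∀ x ∈ s, ∀ t : U1 ⟶ T, lift (t ≫ iT) x ≫ a.act = x) ∧ d + 1 ≤ s.card := by
  classical
  obtain ⟨hTaff, hTsm, hTcon, -, hcomm⟩ := torus_props hT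
  haveI := hTaff; haveI := hTsm; haveI := hTcon
  haveI : Group.IsSolvable (U1 ⟶ T) := Group.isSolvable_of_comm fun a b => hcomm _ a b
  haveI : LocallyOfFiniteType G.hom := inferInstance
  haveI : QuasiCompact G.hom := quasiCompact_of_compactSpace _
  -- coordinates
  obtain ⟨A, _, _, ⟨eG⟩⟩ := Groth.L25.Bridge.exists_hopf G
  let φ : specOf k A ⟶ G := eG.inv.hom.hom
  let ψ : G ⟶ specOf k A := eG.hom.hom.hom
  have hψφ : ψ ≫ φ = 𝟙 G := congrArg (fun f => f.hom.hom) eG.hom_inv_id
  have hφψ : φ ≫ ψ = 𝟙 _ := congrArg (fun f => f.hom.hom) eG.inv_hom_id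
  haveI : IsMonHom φ := eG.inv.hom.isMonHom_hom
  haveI : IsMonHom ψ := eG.hom.hom.isMonHom_hom
  haveI : IsIso φ := ⟨ψ, hφψ, hψφ⟩
  haveI : IsIso ψ := ⟨φ, hψφ, hφψ⟩
  haveI : IsIso φ.left := inferInstanceAs (IsIso ((Over.forget _).map φ))
  haveI : IsIso ψ.left := inferInstanceAs (IsIso ((Over.forget _).map ψ))
  haveI hft : LocallyOfFiniteType (specOf k A).hom := by rw [← Over.w φ]; infer_instance
  haveI : Algebra.FiniteType k A := by
    change LocallyOfFiniteType (Spec.map (CommRingCat.ofHom (algebraMap k A))) at hft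
    rwa [HasRingHomProperty.Spec_iff (P := @LocallyOfFiniteType), CommRingCat.hom_ofHom,
      RingHom.finiteType_algebraMap] at hft
  haveI : IsReduced G.left := Groth.Agent.AV.isReduced_of_smooth_field G.hom
  let φl : Spec (CommRingCat.of A) ⟶ G.left := φ.left
  haveI : IsIso φl := ‹IsIso φ.left›
  haveI hAr : IsReduced (Spec (CommRingCat.of A)) := isReduced_of_isOpenImmersion φl
  haveI : IsReduced (specOf k A).left := hAr
  haveI : _root_.IsReduced A := affine_isReduced_iff (CommRingCat.of A) |>.1 hAr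
  let π := pointsEquiv (A := A) φ
  have hπ : ∀ x, π x ≫ ψ = gPt x.ofConv := fun x => by
    rw [pointsEquiv_apply, Category.assoc, hφψ, Category.comp_id]
  -- the line of the subgroup
  haveI : IsClosedImmersion (iQ ≫ ψ).left := inferInstanceAs (IsClosedImmersion (iQ.left ≫ ψ.left))
  obtain ⟨I, hI, hpts⟩ := exists_hopfIdeal (iQ ≫ ψ)
  obtain ⟨V, _, _, _, hfin, v, hv, hrep⟩ := Groth.L08.Chevalley.exists_line (k := k) I
  have hstab : ∀ x : WithConv (A →ₐ[k] k),
      (∃ b : U1 ⟶ Q, b ≫ iQ = π x) ↔ ∃ c : k, ptAct (A := A) V x v = c • v := by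
    intro x
    refine Iff.trans ?_ (((hpts k x).trans (hrep k x.ofConv)).trans (stabilizesLine_iff_act v x.ofConv))
    haveI : IsIso ((Over.forget _).map (unitToSpec (k := k))) := inferInstanceAs (IsIso (𝟙 (Spec (CommRingCat.of k))))
    haveI : IsIso (unitToSpec (k := k)) := isIso_of_reflects_iso _ (Over.forget _)
    constructor
    · rintro ⟨b, hb⟩
      refine ⟨inv unitToSpec ≫ b, ?_⟩
      rw [Category.assoc, IsIso.inv_comp_eq, ← Category.assoc b, hb, hπ, gPt_eq]
    · rintro ⟨z, hz⟩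
      refine ⟨unitToSpec ≫ z, ?_⟩
      rw [← cancel_mono ψ, Category.assoc, Category.assoc, hz, hπ, gPt_eq]
  haveI : Nontrivial V := ⟨⟨v, 0, hv⟩⟩
  obtain ⟨n, hn⟩ : ∃ n, Module.finrank k V = n + 1 :=
    Nat.exists_eq_succ_of_ne_zero (Module.finrank_pos (R := k) (M := V)).ne'
  obtain ⟨b₀, hb₀⟩ := exists_eigenbasis (V := V) hT (iT ≫ ψ)
  let bV : Module.Basis (Fin (n + 1)) k V := b₀.reindex (finCongr hn)
  obtain ⟨a₀, ha₀⟩ := exists_lineAction (A := A) bV
  let aP := restrict a₀ ψ
  haveI : IsProper (PnOver k n).hom := Groth.L18.PS.isProper_toSpec n k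
  have hex : ∀ w : V, w ≠ 0 → ∃ i, IsUnit (bV.repr w i) := fun w hw => by
    obtain ⟨i, hi⟩ : ∃ i, bV.repr w i ≠ 0 := by
      by_contra hc
      push Not at hc
      exact hw (bV.repr.injective (Finsupp.ext fun i => by simp [hc i]))
    exact ⟨i, isUnit_iff_ne_zero.2 hi⟩
  have hne : ∀ x : WithConv (A →ₐ[k] k), ptAct (A := A) V x v ≠ 0 := fun x h =>
    hv (act_injective (A := A) x.ofConv (h.trans (map_zero _).symm))
  obtain ⟨i₀, hi₀⟩ := hex v hv
  let oP : U1 ⟶ PnOver k n := vPt (fun m => bV.repr v m) i₀ hi₀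
  have horb : ∀ (x : WithConv (A →ₐ[k] k)) (i : Fin (n + 1)) (hi : IsUnit (bV.repr (ptAct (A := A) V x v) i)),
      π x ≫ aP.orbitMap oP = vPt (fun m => bV.repr (ptAct (A := A) V x v) m) i hi := by
    intro x i hi
    rw [comp_orbitMap, toUnit_unique (toUnit U1) (𝟙 _), Category.id_comp, lift_restrict, hπ]
    have e : bV.equivFun.symm (fun m => bV.repr v m) = v := bV.equivFun.symm_apply_apply v
    have h := ha₀ x.ofConv (fun m => bV.repr v m) i₀ hi₀ i (by rw [e]; exact hi)
    simp only [e] at h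
    exact h
  have horb' : ∀ x : WithConv (A →ₐ[k] k), ∃ (i : Fin (n + 1)) (hi : IsUnit (bV.repr (ptAct (A := A) V x v) i)),
      π x ≫ aP.orbitMap oP = vPt (fun m => bV.repr (ptAct (A := A) V x v) m) i hi := fun x =>
    let ⟨i, hi⟩ := hex _ (hne x); ⟨i, hi, horb x i hi⟩
  have heq_orb : ∀ x y : WithConv (A →ₐ[k] k), π x ≫ aP.orbitMap oP = π y ≫ aP.orbitMap oP →
      ∃ b : U1 ⟶ Q, b ≫ iQ = π (x⁻¹ * y) := by
    intro x y e
    obtain ⟨i, hi, hx⟩ := horb' x
    obtain ⟨i', hi', hy⟩ := horb' y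
    rw [hx, hy] at e
    obtain ⟨c, hc⟩ := exists_smul_of_vPt_eq e
    refine (hstab _).2 ⟨(c : k), ?_⟩
    have hyx : ptAct (A := A) V y v = (c : k) • ptAct (A := A) V x v := bV.repr.injective (Finsupp.ext fun m => by
      rw [map_smul, Finsupp.smul_apply, smul_eq_mul]; exact hc m)
    rw [map_mul, Module.End.mul_apply, hyx, map_smul, ← Module.End.mul_apply, ← map_mul, inv_mul_cancel, map_one,
      Module.End.one_apply]
  -- the orbits are closed
  haveI : LocallyOfFiniteType X.hom := hX.1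
  obtain ⟨B, gB, b, hbm, hB⟩ := exists_borel_le hX
  have hQfix : ∀ q : U1 ⟶ Q, lift (q ≫ iQ) oP ≫ aP.act = oP := by
    intro q
    obtain ⟨x, hx⟩ := π.surjective (q ≫ iQ)
    obtain ⟨c, hc⟩ := (hstab x).1 ⟨q, hx.symm⟩
    obtain ⟨i, hi, hxo⟩ := horb' x
    rw [comp_orbitMap, toUnit_unique (toUnit U1) (𝟙 _), Category.id_comp, hx] at hxo
    rw [hxo]
    exact vPt_congr c (fun m => by rw [hc, map_smul, Finsupp.smul_apply, smul_eq_mul]) i₀ i hi₀ hi
  have horbX : ∀ g : U1 ⟶ G, g ≫ a.orbitMap o = lift g o ≫ a.act := fun g => by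
    rw [comp_orbitMap, toUnit_unique (toUnit U1) (𝟙 _), Category.id_comp]
  have horbP : ∀ g : U1 ⟶ G, g ≫ aP.orbitMap oP = lift g oP ≫ aP.act := fun g => by
    rw [comp_orbitMap, toUnit_unique (toUnit U1) (𝟙 _), Category.id_comp]
  have hQfixX : ∀ q : U1 ⟶ Q, lift (q ≫ iQ) o ≫ a.act = o := by
    intro q
    rw [← horbX]
    refine Eq.trans ((orbitMap_eq_iff hX _ (1 : U1 ⟶ G)).2 ⟨q⁻¹, ?_⟩) ?_
    · rw [GrpObj.inv_comp, _root_.mul_one]
    · rw [horbX, Groth.L25.Actions.one_act]
  have hPX : ∀ g g' : U1 ⟶ G, g ≫ aP.orbitMap oP = g' ≫ aP.orbitMap oP →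
      g ≫ a.orbitMap o = g' ≫ a.orbitMap o := by
    intro g g' e
    obtain ⟨q, hq⟩ := heq_orb (π.symm g) (π.symm g') (by rw [π.apply_symm_apply, π.apply_symm_apply, e])
    exact (orbitMap_eq_iff hX g g').2 ⟨q, by rw [hq, map_mul, map_inv, π.apply_symm_apply, π.apply_symm_apply]⟩
  have hbfix : ∀ b' : U1 ⟶ B, lift (b' ≫ b ≫ iQ) oP ≫ aP.act = oP := fun b' => by
    rw [← Category.assoc]; exact hQfix _
  have hclosed : IsClosed (Set.range (aP.orbitMap oP).left) := isClosed_orbit_of_borel aP oP hB hbfix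
  haveI : IsSeparated (X ⊗ PnOver k n).hom := by
    haveI : IsSeparated (pullback.fst X.hom (PnOver k n).hom) := inferInstance
    exact inferInstanceAs (IsSeparated (pullback.fst X.hom (PnOver k n).hom ≫ X.hom))
  haveI : LocallyOfFiniteType (X ⊗ PnOver k n).hom :=
    inferInstanceAs (LocallyOfFiniteType (pullback.fst X.hom (PnOver k n).hom ≫ X.hom))
  let aW := a.prod aP
  let oW : U1 ⟶ X ⊗ PnOver k n := lift o oP
  have hWclosed : IsClosed (Set.range (aW.orbitMap oW).left) := isClosed_orbit_of_borel aW oW hB fun b' => by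
    rw [AlgGrp.Action.lift_prod_act, hbfix, ← Category.assoc, hQfixX]
  have horbW : aW.orbitMap oW = lift (a.orbitMap o) (aP.orbitMap oP) := by
    rw [AlgGrp.Action.orbitMap, AlgGrp.Action.orbitMap, AlgGrp.Action.orbitMap, ← AlgGrp.Action.lift_prod_act,
      comp_lift]
  let W : Set (X ⊗ PnOver k n).left := Set.range (aW.orbitMap oW).left
  let p₁ : W → X.left := fun w => (fst X (PnOver k n)).left w.1
  let p₂ : W → (PnOver k n).left := fun w => (snd X (PnOver k n)).left w.1
  haveI : IsProper (fst X (PnOver k n)).left := inferInstanceAs (IsProper (pullback.fst X.hom (PnOver k n).hom))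
  haveI : IsProper (snd X (PnOver k n)).left := inferInstanceAs (IsProper (pullback.snd X.hom (PnOver k n).hom))
  have hp₁s : Function.Surjective p₁ := fun x => by
    obtain ⟨g, rfl⟩ := hX.2.2.1.surj x
    refine ⟨⟨(aW.orbitMap oW).left g, g, rfl⟩, ?_⟩
    show (fst X (PnOver k n)).left ((aW.orbitMap oW).left g) = _
    rw [← Scheme.Hom.comp_apply, ← Over.comp_left, horbW, lift_fst]
  have hp₁c : IsClosedMap p₁ := (fst X (PnOver k n)).left.isClosedMap.comp hWclosed.isClosedMap_subtype_val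
  have hd₁ : topologicalKrullDim X.left ≤ topologicalKrullDim W :=
    topologicalKrullDim_le_of_surjective
      ((fst X (PnOver k n)).left.continuous.comp continuous_subtype_val) hp₁s hp₁c.specializingMap
  have hp₂r : Set.range p₂ = Set.range (aP.orbitMap oP).left := by
    ext z
    constructor
    · rintro ⟨⟨_, g, rfl⟩, rfl⟩
      refine ⟨g, ?_⟩
      show _ = (snd X (PnOver k n)).left ((aW.orbitMap oW).left g)
      rw [← Scheme.Hom.comp_apply, ← Over.comp_left, horbW, lift_snd]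
    · rintro ⟨g, rfl⟩
      refine ⟨⟨(aW.orbitMap oW).left g, g, rfl⟩, ?_⟩
      show (snd X (PnOver k n)).left ((aW.orbitMap oW).left g) = _
      rw [← Scheme.Hom.comp_apply, ← Over.comp_left, horbW, lift_snd]
  haveI : JacobsonSpace (X ⊗ PnOver k n).left := LocallyOfFiniteType.jacobsonSpace (X ⊗ PnOver k n).hom
  haveI : JacobsonSpace W := JacobsonSpace.of_isClosedEmbedding hWclosed.isClosedEmbedding_subtypeVal
  have hd₂ : topologicalKrullDim W ≤ topologicalKrullDim ↥(Set.range (aP.orbitMap oP).left) := by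
    refine le_trans (topologicalKrullDim_le_range (f := p₂)
      ((snd X (PnOver k n)).left.isClosedMap.comp hWclosed.isClosedMap_subtype_val)
      ((snd X (PnOver k n)).left.continuous.comp continuous_subtype_val) fun x hx y hy e => ?_) (by rw [hp₂r])
    have hcl : ∀ w : W, w ∈ closedPoints W → ∃ g : U1 ⟶ G, ptOf (g ≫ aW.orbitMap oW) = w.1 := by
      intro w hw
      have hw' : IsClosed ({w.1} : Set (X ⊗ PnOver k n).left) := by
        rw [← Set.image_singleton]; exact hWclosed.isClosedMap_subtype_val _ hw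
      obtain ⟨z, hz⟩ := exists_pt_mem (X := X ⊗ PnOver k n) hw'.isLocallyClosed (Set.singleton_nonempty _)
      rw [Set.mem_singleton_iff] at hz
      obtain ⟨g, hg⟩ := exists_pt_lift (aW.orbitMap oW) z (hz.symm ▸ w.2)
      exact ⟨g, by rw [hg, hz]⟩
    obtain ⟨g, hg⟩ := hcl x hx
    obtain ⟨g', hg'⟩ := hcl y hy
    have e' : (snd X (PnOver k n)).left x.1 = (snd X (PnOver k n)).left y.1 := e
    rw [← hg, ← hg'] at e'
    have e2 : g ≫ aP.orbitMap oP = g' ≫ aP.orbitMap oP := pt_ext (by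
      rw [← lift_snd (a.orbitMap o) (aP.orbitMap oP), ← horbW, ← Category.assoc, ← Category.assoc]
      exact e')
    refine Subtype.ext ?_
    rw [← hg, ← hg', horbW, comp_lift, comp_lift, hPX g g' e2, e2]
  -- fixed points
  have hst : ∀ (l : Fin (n + 1)) (z : U1 ⟶ PnOver k n) (t : U1 ⟶ T),
      ptOf z ∉ coordSet l → ptOf (lift t z ≫ (restrict aP iT).act) ∉ coordSet l := by
    intro l z t hz
    obtain ⟨u, i, hi, rfl⟩ := exists_vPt z
    obtain ⟨x, hx⟩ := exists_gPt (A := A) (t ≫ iT ≫ ψ)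
    have hdiag : ∀ m, ∃ c : k, ptAct (A := A) V (toConv x) (bV m) = c • bV m := fun m => by
      obtain ⟨c, hc⟩ := hb₀ t x hx ((finCongr hn).symm m)
      exact ⟨c, by simpa [bV] using hc⟩
    choose c hc using hdiag
    have hact : ∀ m, bV.repr (HopfRep.Comod.act k A V x (bV.equivFun.symm u)) m = c m * u m := by
      intro m
      show bV.repr (ptAct (A := A) V (toConv x) (bV.equivFun.symm u)) m = _
      rw [bV.equivFun_symm_apply, map_sum, map_sum, Finsupp.finsetSum_apply]
      rw [Finset.sum_eq_single m]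
      · simp [hc, mul_comm]
      · intro j _ hj; simp [hc, hj]
      · intro h; exact absurd (Finset.mem_univ m) h
    obtain ⟨i', hi'⟩ := hex (HopfRep.Comod.act k A V x (bV.equivFun.symm u)) fun h0 =>
      exists_ne_zero_of_isUnit u i hi (bV.equivFun.symm.map_eq_zero_iff.1
        (act_injective (A := A) x (h0.trans (map_zero _).symm)))
    rw [lift_restrict, lift_restrict, Category.assoc, ← hx, ha₀ x u i hi i' hi']
    rw [coord_mem_iff] at hz ⊢
    push Not at hz ⊢
    rw [hact, hz, mul_zero]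
  let Z : TopologicalSpace.Closeds (PnOver k n).left := ⟨Set.range (aP.orbitMap oP).left, hclosed⟩
  obtain ⟨s, hs, hcard⟩ := exists_fixed_card (restrict aP iT) hst d Z (fun z t hz => by
    obtain ⟨g, rfl⟩ := exists_pt_lift (aP.orbitMap oP) z hz
    refine ⟨ptOf ((t ≫ iT) * g), ?_⟩
    show ptOf (((t ≫ iT) * g) ≫ aP.orbitMap oP) = _
    rw [horbP, horbP, Groth.L25.Actions.mul_act]
    exact congrArg ptOf (lift_restrict aP iT _ _).symm) (hd.trans (hd₁.trans hd₂))
  choose g hg using fun z : s => exists_pt_lift (aP.orbitMap oP) z.1 (hs z.1 z.2).2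
  refine ⟨Finset.univ.image fun z : s => g z ≫ a.orbitMap o, fun x hx t => ?_, ?_⟩
  · obtain ⟨z, -, rfl⟩ := Finset.mem_image.1 hx
    have h1 := (hs z.1 z.2).1 U1 t
    rw [toUnit_unique (toUnit U1) (𝟙 _), Category.id_comp, lift_restrict, ← hg, horbP,
      ← Groth.L25.Actions.mul_act, ← horbP, ← horbP] at h1
    rw [horbX, ← Groth.L25.Actions.mul_act, ← horbX, ← horbX]
    exact hPX _ _ h1
  · rw [Finset.card_image_of_injective, Finset.card_univ, Fintype.card_coe]
    · exact hcard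
    intro z z' e
    obtain ⟨q, hq⟩ := (orbitMap_eq_iff hX _ _).1 e
    refine Subtype.ext ?_
    rw [← hg z, ← hg z', show g z' = g z * (q ≫ iQ) by rw [hq, mul_inv_cancel_left], horbP, horbP,
      Groth.L25.Actions.mul_act, hQfix]

end Groth.L14.Luna
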